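import Groth.Agent.L02.RelCartier.DegAdd
import Groth.Agent.L17.ProperOver
import Groth.Agent.S1702
import Groth.Agent.S1710
import Mathlib.AlgebraicGeometry.ZariskisMainTheorem

/-!
Sums and differences of finite locally free divisors on a smooth relative curve.
-/

set_option autoImplicit false
set_option linter.style.haveILetI false

universe u

open CategoryTheory CategoryTheory.Limits AlgebraicGeometry TopologicalSpace
open scoped nonZeroDivisors

namespace Groth.L02.RelCartier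

variable {X S : Scheme.{u}}

theorem colon_map {A B : Type u} [CommRing A] [CommRing B] (φ : A →+* B) (f : A)
    (hφ : letI := φ.toAlgebra; IsLocalization.Away f B) (I J : Ideal A) (hI : I.FG) :
    (Submodule.colon J (I : Set A) : Ideal A).map φ = Submodule.colon (J.map φ) (I.map φ : Set B) := by
  letI := φ.toAlgebra
  haveI : IsLocalization.Away f B := hφ
  refine le_antisymm (Ideal.map_le_iff_le_comap.2 fun a ha => ?_) fun x hx => ?_
  · rw [Ideal.mem_comap, Submodule.mem_colon]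
    intro y hy
    induction hy using Submodule.span_induction with
    | mem y hy =>
      obtain ⟨b, hb, rfl⟩ := hy
      rw [smul_eq_mul, ← map_mul]
      exact Ideal.mem_map_of_mem _ (Submodule.mem_colon.1 ha b hb)
    | zero => rw [smul_zero]; exact zero_mem _
    | add u v _ _ hu hv => rw [smul_add]; exact add_mem hu hv
    | smul r v _ hv => rw [smul_comm]; exact Ideal.mul_mem_left _ r hv
  · obtain ⟨⟨a, s⟩, hs⟩ := IsLocalization.surj (Submonoid.powers f) x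
    obtain ⟨G, hG⟩ := hI
    have hg : ∀ y ∈ G, ∃ m : ℕ, f ^ m * (a * y) ∈ J := fun y hy => by
      have h1 := Submodule.mem_colon.1 hx _ (Ideal.mem_map_of_mem φ (hG ▸ Submodule.subset_span hy : y ∈ I))
      have h2 : algebraMap A B (a * y) ∈ J.map (algebraMap A B) := by
        rw [map_mul, ← hs, mul_right_comm]
        exact Ideal.mul_mem_right _ _ h1
      obtain ⟨t, ⟨m, rfl⟩, hm⟩ := (IsLocalization.algebraMap_mem_map_algebraMap_iff (Submonoid.powers f) _ _ _).1 h2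
      exact ⟨m, hm⟩
    choose m hm using hg
    have hmem : f ^ (G.attach.sup fun y => m y.1 y.2) * a ∈ (Submodule.colon J (I : Set A) : Ideal A) := by
      rw [← hG, Submodule.mem_colon]
      intro y hy
      induction hy using Submodule.span_induction with
      | mem y hy =>
        obtain ⟨d, hd⟩ := Nat.exists_eq_add_of_le
          (Finset.le_sup (f := fun y : G => m y.1 y.2) (Finset.mem_attach G ⟨y, hy⟩))
        rw [hd, pow_add, smul_eq_mul, mul_comm (f ^ m y hy), mul_assoc, mul_assoc]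
        exact Ideal.mul_mem_left _ _ (hm y hy)
      | zero => rw [smul_zero]; exact zero_mem _
      | add u v _ _ hu hv => rw [smul_add]; exact add_mem hu hv
      | smul r v _ hv => rw [smul_comm]; exact Ideal.mul_mem_left _ r hv
    have h3 := Ideal.mem_map_of_mem (algebraMap A B) hmem
    have hu : IsUnit (algebraMap A B (f ^ (G.attach.sup fun y => m y.1 y.2))) :=
      IsLocalization.map_units B (⟨_, _, rfl⟩ : Submonoid.powers f)
    rw [map_mul, ← hs, Ideal.unit_mul_mem_iff_mem _ hu,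
      Ideal.mul_unit_mem_iff_mem _ (IsLocalization.map_units B s)] at h3
    exact h3

/-- The colon ideal sheaf. -/
noncomputable def colonSheaf (I J : X.IdealSheafData) (hI : ∀ U : X.affineOpens, (I.ideal U).FG) : X.IdealSheafData :=
  { ideal := fun U => Submodule.colon (J.ideal U) ((I.ideal U : Ideal Γ(X, U.1)) : Set Γ(X, U.1))
    map_ideal_basicOpen := fun U f => by
      refine (colon_map (X.presheaf.map (homOfLE <| X.basicOpen_le f).op).hom f
        (U.2.isLocalization_basicOpen f) (I.ideal U) (J.ideal U) (hI U)).trans ?_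
      rw [I.map_ideal_basicOpen U f, J.map_ideal_basicOpen U f]
      rfl }

theorem fg_ideal_of_eff {I : X.IdealSheafData} (hI : BlowUp.IsEffCartierIdeal I) (U : X.affineOpens) :
    (I.ideal U).FG := by
  choose V hxV g _ hg using hI
  exact Groth.L19.Approx.fgOn_of_le_iSup I ⊤ V (fun x _ => Opens.mem_iSup.2 ⟨x, hxV x⟩)
    (fun x => by rw [hg x]; exact ⟨{g x}, by simp⟩) U le_top

/-- Dividing an effective Cartier divisor by a smaller one. -/
theorem exists_eff_quot {I₁ I₂ : X.IdealSheafData} (h₁ : BlowUp.IsEffCartierIdeal I₁)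
    (h₂ : BlowUp.IsEffCartierIdeal I₂) (hle : I₂ ≤ I₁) :
    ∃ I : X.IdealSheafData, BlowUp.IsEffCartierIdeal I ∧ I₁ * I = I₂ := by
  let I := colonSheaf I₁ I₂ (fg_ideal_of_eff h₁)
  have key : ∀ x : X, ∃ U : X.affineOpens, x ∈ U.1 ∧
      (∃ c ∈ Γ(X, U.1)⁰, I.ideal U = Ideal.span {c}) ∧ I₁.ideal U * I.ideal U = I₂.ideal U := fun x => by
    obtain ⟨U₁, hx₁, t₁, -, -, hU₁⟩ := Groth.L22.Ideals.exists_generator h₁ x
    obtain ⟨U₂, hx₂, t₂, -, -, hU₂⟩ := Groth.L22.Ideals.exists_generator h₂ x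
    obtain ⟨U, hU, hxU, hUle⟩ := exists_isAffineOpen_mem_and_subset (x := x) (U := U₁.1 ⊓ U₂.1) ⟨hx₁, hx₂⟩
    obtain ⟨hn₁, he₁⟩ := hU₁ ⟨U, hU⟩ fun y hy => (hUle hy).1
    obtain ⟨hn₂, he₂⟩ := hU₂ ⟨U, hU⟩ fun y hy => (hUle hy).2
    set a := X.presheaf.map (homOfLE fun y hy => (hUle hy).1 : U ⟶ U₁.1).op t₁ with ha
    set b := X.presheaf.map (homOfLE fun y hy => (hUle hy).2 : U ⟶ U₂.1).op t₂ with hb
    have hab : b ∈ Ideal.span {a} := he₁ ▸ hle ⟨U, hU⟩ (he₂ ▸ Ideal.mem_span_singleton_self b)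
    obtain ⟨c, hc⟩ := Ideal.mem_span_singleton'.1 hab
    have hI : I.ideal ⟨U, hU⟩ = Ideal.span {c} := by
      show Submodule.colon (I₂.ideal ⟨U, hU⟩) _ = _
      rw [he₁, he₂]
      ext z
      rw [Submodule.mem_colon]
      constructor
      · intro h
        obtain ⟨d, hd⟩ := Ideal.mem_span_singleton'.1 (h a (Ideal.mem_span_singleton_self a))
        exact Ideal.mem_span_singleton'.2 ⟨d, (mul_cancel_right_mem_nonZeroDivisors hn₁).1
          (by rw [mul_assoc, hc]; simpa using hd)⟩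
      · intro h y hy
        obtain ⟨e, rfl⟩ := Ideal.mem_span_singleton'.1 h
        obtain ⟨d, rfl⟩ := Ideal.mem_span_singleton'.1 hy
        exact Ideal.mem_span_singleton'.2 ⟨e * d, by rw [← hc, smul_eq_mul]; ring⟩
    refine ⟨⟨U, hU⟩, hxU, ⟨c, ?_, hI⟩, by rw [he₁, he₂, hI, Ideal.span_singleton_mul_span_singleton, mul_comm, hc]⟩
    rw [← hc] at hn₂
    exact (mul_mem_nonZeroDivisors.1 hn₂).1
  choose U hxU hc heq using key
  exact ⟨I, fun x => ⟨U x, hxU x, hc x⟩, Scheme.IdealSheafData.ext_of_iSup_eq_top U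
    (eq_top_iff.2 fun x _ => Opens.mem_iSup.2 ⟨x, hxU x⟩) fun x => by
      rw [Scheme.IdealSheafData.ideal_mul, Pi.mul_apply]; exact heq x⟩

/-- The sum of two finite locally free divisors. -/
theorem isFinLocFreeOfDeg_mul (f : X ⟶ S) [SmoothOfRelativeDimension 1 f]
    (I₁ I₂ : X.IdealSheafData) (d₁ d₂ : ℕ) (h₁ : Mor2.IsFinLocFreeOfDeg d₁ (I₁.subschemeι ≫ f))
    (h₂ : Mor2.IsFinLocFreeOfDeg d₂ (I₂.subschemeι ≫ f)) :
    Mor2.IsFinLocFreeOfDeg (d₁ + d₂) ((I₁ * I₂).subschemeι ≫ f) := by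
  haveI : Smooth f := SmoothOfRelativeDimension.smooth 1 f
  obtain ⟨⟨hfin₁, hflat₁, hfp₁⟩, hd₁⟩ := h₁
  obtain ⟨⟨hfin₂, hflat₂, hfp₂⟩, hd₂⟩ := h₂
  obtain ⟨e₁, -⟩ := (main_curve f I₁).2 ⟨hfin₁, hflat₁, hfp₁⟩
  obtain ⟨e₂, -⟩ := (main_curve f I₂).2 ⟨hfin₂, hflat₂, hfp₂⟩
  obtain ⟨e, hflat⟩ := Groth.Agent.S1702.result f I₁ I₂ ⟨e₁, hflat₁⟩ ⟨e₂, hflat₂⟩
  obtain ⟨hlqf, -, hfp⟩ := (main_curve f (I₁ * I₂)).1.1 ⟨e, hflat⟩
  let g : I₁.subscheme ⨿ I₂.subscheme ⟶ X := coprod.desc I₁.subschemeι I₂.subschemeι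
  haveI : IsFinite g := inferInstanceAs (IsFinite (coprod.desc _ _))
  haveI : IsFinite (g ≫ f) := by
    rw [show g ≫ f = coprod.desc (I₁.subschemeι ≫ f) (I₂.subschemeι ≫ f) by apply coprod.hom_ext <;> simp [g]]
    infer_instance
  have hr : Set.range (I₁ * I₂).subschemeι ⊆ Set.range g := by
    rw [(I₁ * I₂).range_subschemeι, Scheme.IdealSheafData.support_mul]
    intro x hx
    rcases hx with hx | hx
    · rw [← I₁.range_subschemeι] at hx
      obtain ⟨w, rfl⟩ := hx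
      exact ⟨(coprod.inl : I₁.subscheme ⟶ I₁.subscheme ⨿ I₂.subscheme) w, by
        rw [← Scheme.Hom.comp_apply, coprod.inl_desc]⟩
    · rw [← I₂.range_subschemeι] at hx
      obtain ⟨w, rfl⟩ := hx
      exact ⟨(coprod.inr : I₂.subscheme ⟶ I₁.subscheme ⨿ I₂.subscheme) w, by
        rw [← Scheme.Hom.comp_apply, coprod.inr_desc]⟩
  haveI := Groth.L17.ProperOver.isProper_of_range_subset f g (I₁ * I₂).subschemeι hr
  haveI hfin : IsFinite ((I₁ * I₂).subschemeι ≫ f) := IsFinite.of_isProper_of_locallyQuasiFinite _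
  exact ⟨⟨hfin, hflat, hfp⟩, fun s => by rw [finrank_mul f I₁ I₂ e₁ e₂ s, hd₁ s, hd₂ s]⟩

/-- The difference of two finite locally free divisors. -/
theorem exists_isFinLocFreeOfDeg_quot (f : X ⟶ S) [SmoothOfRelativeDimension 1 f]
    (I₁ I₂ : X.IdealSheafData) (hle : I₂ ≤ I₁) (d₁ d₂ : ℕ) (h₁ : Mor2.IsFinLocFreeOfDeg d₁ (I₁.subschemeι ≫ f))
    (h₂ : Mor2.IsFinLocFreeOfDeg d₂ (I₂.subschemeι ≫ f)) :
    ∃ I : X.IdealSheafData, Mor2.IsFinLocFreeOfDeg (d₂ - d₁) (I.subschemeι ≫ f) ∧ I₂ = I₁ * I := by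
  haveI : Smooth f := SmoothOfRelativeDimension.smooth 1 f
  obtain ⟨⟨hfin₁, hflat₁, hfp₁⟩, hd₁⟩ := h₁
  obtain ⟨⟨hfin₂, hflat₂, hfp₂⟩, hd₂⟩ := h₂
  obtain ⟨e₁, -⟩ := (main_curve f I₁).2 ⟨hfin₁, hflat₁, hfp₁⟩
  obtain ⟨e₂, -⟩ := (main_curve f I₂).2 ⟨hfin₂, hflat₂, hfp₂⟩
  obtain ⟨I, e, rfl⟩ := exists_eff_quot e₁ e₂ hle
  haveI hflat : Flat (I.subschemeι ≫ f) := Groth.Agent.S1710.result f I₁ (I₁ * I) I ⟨e₁, hflat₁⟩ ⟨e₂, hflat₂⟩ e rfl
  have hI : I₁ * I ≤ I := fun U => by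
    rw [Scheme.IdealSheafData.ideal_mul, Pi.mul_apply]; exact Ideal.mul_le_right
  haveI hfin : IsFinite (I.subschemeι ≫ f) := by
    rw [← Scheme.IdealSheafData.inclusion_subschemeι hI, Category.assoc]
    infer_instance
  refine ⟨I, ⟨⟨hfin, hflat, lfp_of_eff_rel f I e⟩, fun s => ?_⟩, rfl⟩
  have := finrank_mul f I₁ I e₁ e s
  rw [hd₁ s, hd₂ s] at this
  omega

end Groth.L02.RelCartier
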