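import Groth.Agent.L07.FibreRegular
import Groth.Agent.L20.FibreFT
import Groth.Agent.L02.Flat
import Mathlib.RingTheory.Flat.Localization
import Mathlib.RingTheory.Localization.BaseChange
import Mathlib.RingTheory.Nakayama
import Mathlib.LinearAlgebra.TensorProduct.Quotient
import Mathlib.RingTheory.LocalRing.ResidueField.Ideal

/-!
Relative effective Cartier divisors, algebraic form: a generator which is regular on every fibre is regular
with flat quotient, and an ideal with flat quotient which is principal on a fibre is principal nearby.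
-/

set_option autoImplicit false
set_option linter.style.haveILetI false

universe u

open scoped TensorProduct nonZeroDivisors Pointwise

namespace Groth.L02.RelCartier

variable {A B : Type u} [CommRing A] [CommRing B] [Algebra A B]

theorem nzd_and_flat [Algebra.FinitePresentation A B] [Module.Flat A B] (t : B)
    (h : ∀ q : Ideal B, [q.IsPrime] → t ∈ q →
      (t ⊗ₜ[A] (1 : (q.comap (algebraMap A B)).ResidueField)) ∈
        nonZeroDivisors (B ⊗[A] (q.comap (algebraMap A B)).ResidueField)) :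
    t ∈ nonZeroDivisors B ∧ Module.Flat A (B ⧸ Ideal.span {t}) := by
  have key : ∀ q : Ideal B, [q.IsPrime] → t ∈ q →
      IsSMulRegular (LocalizedModule q.primeCompl B) t ∧
        Module.Flat A (LocalizedModule q.primeCompl (QuotSMulTop t B)) := by
    intro q _ htq
    let C := B ⊗[A] (q.comap (algebraMap A B)).ResidueField
    have hmul : ∀ z : C, t • z = (t ⊗ₜ[A] (1 : (q.comap (algebraMap A B)).ResidueField)) * z := by
      intro z
      induction z using TensorProduct.induction_on with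
      | zero => rw [smul_zero, mul_zero]
      | tmul b k => rw [Algebra.TensorProduct.tmul_mul_tmul, one_mul, TensorProduct.smul_tmul', smul_eq_mul]
      | add a b ha hb => rw [smul_add, ha, hb, mul_add]
    have hreg : IsSMulRegular C t := by
      intro a b hab
      rw [← sub_eq_zero]
      refine (h q htq).1 _ ?_
      rw [← hmul, smul_sub, sub_eq_zero]
      exact hab
    have hloc : IsSMulRegular (LocalizedModule q.primeCompl C) t := by
      have h' := hreg.of_isLocalizedModule (Localization q.primeCompl) q.primeCompl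
        (LocalizedModule.mkLinearMap q.primeCompl C)
      intro u v huv
      exact h' (by
        show algebraMap B (Localization q.primeCompl) t • u = algebraMap B (Localization q.primeCompl) t • v
        rw [algebraMap_smul, algebraMap_smul]
        exact huv)
    exact Groth.L07.FibreRegular.isSMulRegular_and_flat B q t htq
      (Groth.L20.FibreCrit.flat_localizedModule_of_flat (R := A) (S := B) (M := B) q.primeCompl) hloc
  constructor
  · rw [mem_nonZeroDivisors_iff_right]
    intro z hz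
    refine Module.eq_zero_of_localization_maximal (R := B) (fun P _ => LocalizedModule P.primeCompl B)
      (fun P _ => LocalizedModule.mkLinearMap P.primeCompl B) _ fun q hqm => ?_
    haveI : q.IsPrime := hqm.isPrime
    have hz' : t • LocalizedModule.mkLinearMap q.primeCompl B z = 0 := by
      rw [← LinearMap.map_smul, smul_eq_mul, mul_comm, hz, map_zero]
    by_cases htq : t ∈ q
    · exact (key q htq).1 (hz'.trans (smul_zero _).symm)
    · exact (IsLocalizedModule.smul_inj (LocalizedModule.mkLinearMap q.primeCompl B)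
        (⟨t, htq⟩ : q.primeCompl) _ 0).1 (hz'.trans (smul_zero _).symm)
  · have hflat : Module.Flat A (QuotSMulTop t B) := by
      refine Module.flat_of_isLocalized_maximal (S := B) (QuotSMulTop t B)
        (fun P _ => LocalizedModule P.primeCompl (QuotSMulTop t B))
        (fun P _ => LocalizedModule.mkLinearMap P.primeCompl (QuotSMulTop t B)) fun q hqm => ?_
      haveI : q.IsPrime := hqm.isPrime
      by_cases htq : t ∈ q
      · exact (key q htq).2
      · haveI : Subsingleton (LocalizedModule q.primeCompl (QuotSMulTop t B)) := by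
          refine LocalizedModule.subsingleton_iff.2 fun m => ⟨t, htq, ?_⟩
          obtain ⟨m, rfl⟩ := Submodule.Quotient.mk_surjective _ m
          rw [← Submodule.Quotient.mk_smul, Submodule.Quotient.mk_eq_zero]
          exact Submodule.smul_mem_pointwise_smul _ _ _ Submodule.mem_top
        infer_instance
    have heq : (t • ⊤ : Submodule B B) = Ideal.span {t} := by
      ext x
      simp only [Submodule.mem_smul_pointwise_iff_exists, Submodule.mem_top, true_and,
        Ideal.mem_span_singleton', smul_eq_mul]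
      exact exists_congr fun a => by rw [mul_comm]
    exact Module.Flat.of_linearEquiv ((Submodule.quotEquivOfEq _ _ heq).restrictScalars A).symm

/-- The kernel of `M → M ⊗ κ(p)`. -/
theorem exists_smul_mem_of_tmul_one_eq_zero {M : Type u} [AddCommGroup M] [Module A M] (p : Ideal A)
    [p.IsPrime] (y : M) (hy : y ⊗ₜ[A] (1 : p.ResidueField) = 0) :
    ∃ a ∉ p, a • y ∈ p • (⊤ : Submodule A M) := by
  let g : (A ⧸ p) →ₗ[A] p.ResidueField := (IsScalarTower.toAlgHom A (A ⧸ p) p.ResidueField).toLinearMap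
  have hg : ∀ x, g x = algebraMap (A ⧸ p) p.ResidueField x := fun _ => rfl
  haveI : IsLocalizedModule p.primeCompl g := by
    refine ⟨fun s => ?_, fun z => ?_, fun {x₁ x₂} h => ⟨1, ?_⟩⟩
    · have hs : algebraMap A p.ResidueField s.1 ≠ 0 := fun h => s.2 (Ideal.algebraMap_residueField_eq_zero.1 h)
      rw [Module.End.isUnit_iff]
      refine ⟨fun a b hab => ?_, fun b => ⟨(algebraMap A p.ResidueField s.1)⁻¹ * b, ?_⟩⟩
      · simp only [Module.algebraMap_end_apply, Algebra.smul_def] at hab
        exact mul_left_cancel₀ hs hab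
      · simp only [Module.algebraMap_end_apply, Algebra.smul_def]
        rw [← mul_assoc, mul_inv_cancel₀ hs, one_mul]
    · obtain ⟨⟨x, s⟩, hz⟩ := IsLocalization.surj (A ⧸ p)⁰ z
      obtain ⟨a, ha⟩ := Ideal.Quotient.mk_surjective (s : A ⧸ p)
      have hap : a ∉ p := fun h' => nonZeroDivisors.ne_zero s.2
        (by rw [← ha, Ideal.Quotient.eq_zero_iff_mem]; exact h')
      refine ⟨(x, ⟨a, hap⟩), ?_⟩
      show a • z = g x
      rw [hg, ← hz, ← ha, Algebra.smul_def, Ideal.algebraMap_quotient_residueField_mk, mul_comm]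
    · rw [one_smul, one_smul]
      exact p.injective_algebraMap_quotient_residueField h
  have h0 : TensorProduct.AlgebraTensorModule.rTensor A M g ((1 : A ⧸ p) ⊗ₜ[A] y) = 0 := by
    rw [TensorProduct.AlgebraTensorModule.rTensor_tmul, hg, map_one,
      ← TensorProduct.comm_tmul (R := A) (m := y) (n := (1 : p.ResidueField)), hy, map_zero]
  obtain ⟨c, hc⟩ := (IsLocalizedModule.eq_zero_iff p.primeCompl (TensorProduct.AlgebraTensorModule.rTensor A M g)).1 h0
  refine ⟨c.1, c.2, ?_⟩
  have h1 : (1 : A ⧸ p) ⊗ₜ[A] (c.1 • y) = 0 := by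
    rw [TensorProduct.tmul_smul]; exact hc
  have h2 := congrArg (TensorProduct.quotTensorEquivQuotSMul M p) h1
  rw [map_zero] at h2
  rw [show (1 : A ⧸ p) = Ideal.Quotient.mk p 1 from rfl] at h2
  rw [TensorProduct.quotTensorEquivQuotSMul_mk_tmul, one_smul, Submodule.Quotient.mk_eq_zero] at h2
  exact h2

/-- Elements of the fibre ring have denominators in the base. -/
theorem exists_denominator (p : Ideal A) [p.IsPrime] (z : B ⊗[A] p.ResidueField) :
    ∃ a ∉ p, ∃ b : B, (algebraMap A B a) ⊗ₜ[A] (1 : p.ResidueField) * z = b ⊗ₜ 1 := by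
  induction z using TensorProduct.induction_on with
  | zero => exact ⟨1, fun h => ‹p.IsPrime›.ne_top ((Ideal.eq_top_iff_one _).2 h), 0, by simp⟩
  | tmul b k =>
    obtain ⟨⟨x, s⟩, hk⟩ := IsLocalization.surj (A ⧸ p)⁰ k
    obtain ⟨a, ha⟩ := Ideal.Quotient.mk_surjective (s : A ⧸ p)
    obtain ⟨x, rfl⟩ := Ideal.Quotient.mk_surjective x
    have hap : a ∉ p := fun h' => nonZeroDivisors.ne_zero s.2
      (by rw [← ha, Ideal.Quotient.eq_zero_iff_mem]; exact h')
    refine ⟨a, hap, x • b, ?_⟩
    rw [← ha, Ideal.algebraMap_quotient_residueField_mk, Ideal.algebraMap_quotient_residueField_mk] at hk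
    rw [Algebra.TensorProduct.tmul_mul_tmul, one_mul, ← Algebra.smul_def, TensorProduct.smul_tmul,
      TensorProduct.smul_tmul, Algebra.smul_def, Algebra.smul_def, mul_one, mul_comm, hk]
  | add u v hu hv =>
    obtain ⟨a₁, ha₁, b₁, h₁⟩ := hu
    obtain ⟨a₂, ha₂, b₂, h₂⟩ := hv
    refine ⟨a₁ * a₂, fun h => (‹p.IsPrime›.mem_or_mem h).elim ha₁ ha₂,
      algebraMap A B a₂ * b₁ + algebraMap A B a₁ * b₂, ?_⟩
    have e : (algebraMap A B (a₁ * a₂)) ⊗ₜ[A] (1 : p.ResidueField) =
        (algebraMap A B a₁ ⊗ₜ[A] 1) * (algebraMap A B a₂ ⊗ₜ[A] 1) := by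
      rw [Algebra.TensorProduct.tmul_mul_tmul, one_mul, map_mul]
    have e₁ : ∀ c d : B, (c * d) ⊗ₜ[A] (1 : p.ResidueField) = (c ⊗ₜ[A] 1) * (d ⊗ₜ[A] 1) := by
      intro c d; rw [Algebra.TensorProduct.tmul_mul_tmul, one_mul]
    rw [e, TensorProduct.add_tmul, e₁, e₁, ← h₁, ← h₂]
    ring

/-- Elements of the extended ideal have denominators in the base and numerators in the ideal. -/
theorem exists_denominator_mem (p : Ideal A) [p.IsPrime] (I : Ideal B) (z : B ⊗[A] p.ResidueField)
    (hz : z ∈ I.map (Algebra.TensorProduct.includeLeftRingHom : B →+* B ⊗[A] p.ResidueField)) :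
    ∃ a ∉ p, ∃ b ∈ I, (algebraMap A B a) ⊗ₜ[A] (1 : p.ResidueField) * z = b ⊗ₜ 1 := by
  have e₁ : ∀ c d : B, (c * d) ⊗ₜ[A] (1 : p.ResidueField) = (c ⊗ₜ[A] 1) * (d ⊗ₜ[A] 1) := by
    intro c d; rw [Algebra.TensorProduct.tmul_mul_tmul, one_mul]
  induction hz using Submodule.span_induction with
  | mem x hx =>
    obtain ⟨b, hb, rfl⟩ := hx
    exact ⟨1, fun h => ‹p.IsPrime›.ne_top ((Ideal.eq_top_iff_one _).2 h), b, hb, by
      rw [map_one, ← Algebra.TensorProduct.one_def, one_mul]; rfl⟩
  | zero => exact ⟨1, fun h => ‹p.IsPrime›.ne_top ((Ideal.eq_top_iff_one _).2 h), 0, zero_mem _, by simp⟩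
  | add u v _ _ hu hv =>
    obtain ⟨a₁, ha₁, b₁, hb₁, h₁⟩ := hu
    obtain ⟨a₂, ha₂, b₂, hb₂, h₂⟩ := hv
    refine ⟨a₁ * a₂, fun h => (‹p.IsPrime›.mem_or_mem h).elim ha₁ ha₂,
      algebraMap A B a₂ * b₁ + algebraMap A B a₁ * b₂, add_mem (I.mul_mem_left _ hb₁) (I.mul_mem_left _ hb₂), ?_⟩
    rw [map_mul, e₁, TensorProduct.add_tmul, e₁, e₁, ← h₁, ← h₂]
    ring
  | smul c x _ hx =>
    obtain ⟨a₁, ha₁, b₁, hb₁, h₁⟩ := hx
    obtain ⟨a₂, ha₂, b₂, h₂⟩ := exists_denominator p c
    refine ⟨a₂ * a₁, fun h => (‹p.IsPrime›.mem_or_mem h).elim ha₂ ha₁, b₂ * b₁, I.mul_mem_left _ hb₁, ?_⟩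
    rw [map_mul, e₁, e₁, ← h₁, ← h₂, smul_eq_mul]
    ring

/-- An ideal with flat quotient which is locally principal on a fibre is principal near that fibre point. -/
theorem exists_principal (I : Ideal B) (hI : I.FG) [Module.Flat A (B ⧸ I)] (q : Ideal B) [q.IsPrime]
    (h : ∀ P : Ideal (B ⊗[A] (q.comap (algebraMap A B)).ResidueField), P.IsPrime →
      ∃ g ∉ P, ∃ y ∈ I.map (Algebra.TensorProduct.includeLeftRingHom : B →+* _),
        ∀ z ∈ I.map (Algebra.TensorProduct.includeLeftRingHom :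
            B →+* B ⊗[A] (q.comap (algebraMap A B)).ResidueField), ∃ (n : ℕ) (c : _), g ^ n * z = c * y) :
    ∃ t ∈ I, ∃ g ∉ q, I.map (algebraMap B (Localization.Away g)) =
      Ideal.span {algebraMap B (Localization.Away g) t} := by
  classical
  let p := q.comap (algebraMap A B)
  let C := B ⊗[A] p.ResidueField
  let κq : p.ResidueField →ₐ[A] q.ResidueField :=
    Ideal.ResidueField.mapₐ p q (Algebra.ofId A B) rfl
  let π : C →ₐ[A] q.ResidueField :=
    Algebra.TensorProduct.lift (IsScalarTower.toAlgHom A B q.ResidueField) κq fun _ _ => Commute.all _ _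
  have hπ : ∀ b : B, π (b ⊗ₜ[A] 1) = algebraMap B q.ResidueField b := fun b => by
    rw [Algebra.TensorProduct.lift_tmul, map_one, mul_one]; rfl
  have hmem : ∀ b : B, b ⊗ₜ[A] (1 : p.ResidueField) ∈ RingHom.ker π.toRingHom ↔ b ∈ q := fun b => by
    rw [RingHom.mem_ker, ← Ideal.algebraMap_residueField_eq_zero (I := q), ← hπ]
    rfl
  haveI : (RingHom.ker π.toRingHom).IsPrime := RingHom.ker_isPrime _
  obtain ⟨g, hg, y, hy, hgen⟩ := h (RingHom.ker π.toRingHom) inferInstance
  obtain ⟨a₀, ha₀, s₀, hs₀⟩ := exists_denominator p g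
  obtain ⟨a₁, ha₁, t, ht, hty⟩ := exists_denominator_mem p I y hy
  have hs₀q : s₀ ∉ q := fun hc => by
    have : (algebraMap A B a₀) ⊗ₜ[A] (1 : p.ResidueField) * g ∈ RingHom.ker π.toRingHom := by
      rw [hs₀, hmem]; exact hc
    exact (Ideal.IsPrime.mem_or_mem inferInstance this).elim (fun h' => ha₀ ((hmem _).1 h')) hg
  have e₁ : ∀ c d : B, (c * d) ⊗ₜ[A] (1 : p.ResidueField) = (c ⊗ₜ[A] 1) * (d ⊗ₜ[A] 1) := by
    intro c d; rw [Algebra.TensorProduct.tmul_mul_tmul, one_mul]
  have epow : ∀ (c : B) (n : ℕ), (c ^ n) ⊗ₜ[A] (1 : p.ResidueField) = (c ⊗ₜ[A] 1) ^ n := by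
    intro c n; rw [Algebra.TensorProduct.tmul_pow, one_pow]
  have key : ∀ x ∈ I, ∃ s ∉ q, s * x ∈ Ideal.span {t} ⊔ q * I := by
    intro x hx
    obtain ⟨n, c, hc⟩ := hgen (x ⊗ₜ[A] 1) (Ideal.mem_map_of_mem _ hx)
    obtain ⟨a₂, ha₂, b, hb⟩ := exists_denominator p c
    let s := s₀ ^ n * algebraMap A B a₁ * algebraMap A B a₂
    let b' := algebraMap A B a₀ ^ n * b
    have hs : s ∉ q := fun hc => by
      rcases Ideal.IsPrime.mem_or_mem inferInstance hc with h' | h'
      · rcases Ideal.IsPrime.mem_or_mem inferInstance h' with h'' | h''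
        · exact hs₀q (Ideal.IsPrime.mem_of_pow_mem inferInstance n h'')
        · exact ha₁ h''
      · exact ha₂ h'
    let w : I := ⟨s * x - b' * t, sub_mem (I.mul_mem_left _ hx) (I.mul_mem_left _ ht)⟩
    have hw : (w.1) ⊗ₜ[A] (1 : p.ResidueField) = 0 := by
      show (s * x - b' * t) ⊗ₜ[A] (1 : p.ResidueField) = 0
      rw [TensorProduct.sub_tmul, sub_eq_zero, e₁, e₁, e₁, e₁, e₁, epow, epow, ← hs₀, ← hb, ← hty,
        mul_pow]
      calc _ = (algebraMap A B a₀ ⊗ₜ[A] (1 : p.ResidueField)) ^ n * (algebraMap A B a₁ ⊗ₜ[A] 1) *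
          (algebraMap A B a₂ ⊗ₜ[A] 1) * (g ^ n * (x ⊗ₜ[A] 1)) := by ring
        _ = _ := by rw [hc]; ring
    let ι : I →ₗ[A] B := I.subtype.restrictScalars A
    have hu := Groth.L02.universallyInjective_of_flat_coker ι ((Ideal.Quotient.mkₐ A I).toLinearMap)
      Subtype.val_injective (fun b => ⟨fun hb => ⟨⟨b, Ideal.Quotient.eq_zero_iff_mem.1 hb⟩, rfl⟩,
        fun ⟨i, hi⟩ => hi ▸ Ideal.Quotient.eq_zero_iff_mem.2 i.2⟩) (Ideal.Quotient.mkₐ_surjective A I) p.ResidueField
    have hw' : w ⊗ₜ[A] (1 : p.ResidueField) = 0 := hu (by rw [map_zero]; exact hw)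
    obtain ⟨a, ha, haw⟩ := exists_smul_mem_of_tmul_one_eq_zero p w hw'
    refine ⟨algebraMap A B a * s, fun hc => (Ideal.IsPrime.mem_or_mem inferInstance hc).elim ha hs, ?_⟩
    have hval : ∀ z ∈ p • (⊤ : Submodule A I), (z : B) ∈ q * I := fun z hz => by
      refine Submodule.smul_induction_on hz (fun r hr i _ => ?_) fun u v hu hv => ?_
      · rw [Submodule.coe_smul_of_tower, Algebra.smul_def]
        exact Ideal.mul_mem_mul hr i.2
      · rw [Submodule.coe_add]; exact add_mem hu hv
    have h1 : algebraMap A B a * (s * x - b' * t) ∈ q * I := by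
      have := hval _ haw
      rwa [Submodule.coe_smul_of_tower, Algebra.smul_def] at this
    rw [show algebraMap A B a * s * x =
      algebraMap A B a * b' * t + algebraMap A B a * (s * x - b' * t) by ring]
    exact Submodule.add_mem_sup (Ideal.mul_mem_left _ _ (Ideal.mem_span_singleton_self t)) h1
  let L := Localization.AtPrime q
  have hle : I.map (algebraMap B L) ≤ (Ideal.span {t}).map (algebraMap B L) := by
    refine Submodule.le_of_le_smul_of_le_jacobson_bot (I := IsLocalRing.maximalIdeal L) (hI.map _)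
      (IsLocalRing.maximalIdeal_le_jacobson _) ?_
    rw [Ideal.map_le_iff_le_comap]
    intro x hx
    obtain ⟨s, hs, hsx⟩ := key x hx
    rw [Ideal.mem_comap, smul_eq_mul]
    have hu : IsUnit (algebraMap B L s) := IsLocalization.map_units L (⟨s, hs⟩ : q.primeCompl)
    rw [← Ideal.unit_mul_mem_iff_mem _ hu, ← map_mul]
    have hq : q.map (algebraMap B L) ≤ IsLocalRing.maximalIdeal L :=
      (Localization.AtPrime.map_eq_maximalIdeal (I := q)).le
    have := Ideal.mem_map_of_mem (algebraMap B L) hsx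
    rw [Ideal.map_sup, Ideal.map_mul] at this
    exact sup_le_sup_left (Ideal.mul_mono_left hq) _ this
  obtain ⟨G, hG⟩ := hI
  have hx : ∀ x : B, x ∈ G → ∃ s ∉ q, s * x ∈ Ideal.span {t} := by
    intro x hxG
    have hxI : x ∈ I := hG ▸ Submodule.subset_span hxG
    obtain ⟨s, hs, hsx⟩ := (IsLocalization.algebraMap_mem_map_algebraMap_iff q.primeCompl L _ x).1
      (hle (Ideal.mem_map_of_mem _ hxI))
    exact ⟨s, hs, hsx⟩
  choose! s hs hsx using hx
  refine ⟨t, ht, ∏ x ∈ G, s x, fun hc => ?_, ?_⟩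
  · obtain ⟨x, hxG, hxq⟩ := (Ideal.IsPrime.prod_mem_iff (p := q)).1 hc
    exact hs x hxG hxq
  · let gG := ∏ x ∈ G, s x
    refine le_antisymm ?_ ((Ideal.span_singleton_le_iff_mem _).2 (Ideal.mem_map_of_mem _ ht))
    rw [Ideal.map_le_iff_le_comap, ← hG]
    refine Submodule.span_le.2 fun x hxG => ?_
    rw [SetLike.mem_coe, Ideal.mem_comap,
      ← Ideal.unit_mul_mem_iff_mem _ (IsLocalization.Away.algebraMap_isUnit gG), ← map_mul,
      ← Set.image_singleton, ← Ideal.map_span]
    refine Ideal.mem_map_of_mem _ ?_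
    obtain ⟨r, hr⟩ := Finset.dvd_prod_of_mem s (show x ∈ G from hxG)
    show (∏ x ∈ G, s x) * x ∈ _
    rw [hr, mul_comm (s x), mul_assoc]
    exact Ideal.mul_mem_left _ _ (hsx x hxG)

end Groth.L02.RelCartier
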