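import Groth.Agent.L20.FlatLocusOpen
import Groth.Agent.L20.FlatAtBaseChange
import Groth.Agent.L07.FlatStage
import Groth.Agent.L02.Flat
import Mathlib.RingTheory.TensorProduct.DirectLimitFG
import Mathlib.RingTheory.Extension.Presentation.Core
import Mathlib.RingTheory.Adjoin.FG
import Mathlib.RingTheory.Finiteness.Nakayama

/-!
A finitely presented algebra is flat along a flat relative Cartier divisor.
-/

set_option autoImplicit false
set_option linter.style.haveILetI false

universe u

open TensorProduct LinearMap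
open scoped TensorProduct

namespace Groth.L02.RelCartier

/-- Noetherian case. -/
theorem flat_at_of_noetherian {A B Q : Type u} [CommRing A] [IsNoetherianRing A] [CommRing B] [Algebra A B]
    [Algebra.FiniteType A B] [AddCommGroup Q] [Module A Q] [Module.Flat A Q] (t : B)
    (ht : Function.Injective (LinearMap.mulLeft A t)) (π : B →ₗ[A] Q)
    (hex : Function.Exact (LinearMap.mulLeft A t) π) (hπ : Function.Surjective π)
    (T : Submonoid B) (hT : ∀ r : B, r - 1 ∈ Ideal.span {t} → r ∈ T) :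
    Module.Flat A (LocalizedModule T B) := by
  haveI : IsNoetherianRing B := Algebra.FiniteType.isNoetherianRing A B
  refine Groth.L20.flat_localizedModule_of_forall T fun J z hz => ?_
  haveI : Module.Finite A J := Module.Finite.iff_fg.mpr (IsNoetherian.noetherian J)
  let Ψ : B ⊗[A] J →ₗ[B] B ⊗[A] A := AlgebraTensorModule.lTensor B B J.subtype
  let N : Submodule B (B ⊗[A] J) := LinearMap.ker Ψ
  have hsmul : ∀ w : B ⊗[A] J, t • w = (LinearMap.mulLeft A t).rTensor J w := fun w => by
    induction w using TensorProduct.induction_on with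
    | zero => simp
    | tmul b j => simp [TensorProduct.smul_tmul']
    | add a b ha hb => simp only [smul_add, map_add, ha, hb]
  have hN : N ≤ Ideal.span {t} • N := by
    intro w hw
    have hw0 : J.subtype.lTensor B w = 0 := hw
    have h1 : π.rTensor J w = 0 := by
      apply Module.Flat.lTensor_preserves_injective_linearMap (M := Q) J.subtype J.injective_subtype
      rw [map_zero, ← LinearMap.comp_apply, LinearMap.lTensor_comp_rTensor,
        ← LinearMap.rTensor_comp_lTensor, LinearMap.comp_apply, hw0, map_zero]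
    obtain ⟨w', hw'⟩ := (rTensor_exact J hex hπ w).1 h1
    rw [← hsmul] at hw'
    have hw'N : w' ∈ N := by
      have h2 : t • Ψ w' = 0 := by rw [← map_smul, hw']; exact hw
      let e := TensorProduct.AlgebraTensorModule.rid A B B
      have h3 : t * e (Ψ w') = 0 := by rw [← smul_eq_mul, ← map_smul, h2, map_zero]
      exact e.map_eq_zero_iff.1 (ht (h3.trans (mul_zero t).symm))
    exact hw' ▸ Submodule.smul_mem_smul (Ideal.mem_span_singleton_self t) hw'N
  obtain ⟨r, hr, hrN⟩ := Submodule.exists_sub_one_mem_and_smul_eq_zero_of_fg_of_le_smul (Ideal.span {t}) N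
    (IsNoetherian.noetherian N) hN
  exact ⟨r, hT r hr, hrN z hz⟩

/-- After a base change killing the kernel, multiplication with flat cokernel is injective. -/
theorem injective_lTensor_of_kills_ker {R M Q C : Type u} [CommRing R] [AddCommGroup M] [Module R M]
    [AddCommGroup Q] [Module R Q] [Module.Flat R Q] [AddCommGroup C] [Module R C] (m : M →ₗ[R] M)
    (π : M →ₗ[R] Q) (hex : Function.Exact m π) (hπ : Function.Surjective π)
    (hK : ∀ k ∈ LinearMap.ker m, ∀ c : C, c ⊗ₜ[R] k = 0) : Function.Injective (m.lTensor C) := by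
  let ι := (LinearMap.range m).subtype
  let g := m.rangeRestrict
  have hι : Function.Injective (ι.lTensor C) := by
    rw [LinearMap.lTensor_inj_iff_rTensor_inj]
    exact Groth.L02.universallyInjective_of_flat_coker ι π Subtype.val_injective
      (fun b => (hex b).trans ⟨fun ⟨a, ha⟩ => ⟨⟨b, a, ha⟩, rfl⟩, fun ⟨⟨_, a, ha⟩, hb⟩ => ⟨a, ha.trans hb⟩⟩)
      hπ C
  have hg : Function.Exact (LinearMap.ker m).subtype g := fun x => by
    constructor
    · intro hx; exact ⟨⟨x, LinearMap.mem_ker.2 (congrArg Subtype.val hx)⟩, rfl⟩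
    · rintro ⟨⟨y, hy⟩, rfl⟩; exact Subtype.ext (LinearMap.mem_ker.1 hy)
  rw [injective_iff_map_eq_zero]
  intro x hx
  have hgx : g.lTensor C x = 0 := by
    apply hι
    rw [map_zero, ← LinearMap.comp_apply, ← LinearMap.lTensor_comp]
    exact hx
  obtain ⟨y, rfl⟩ := (lTensor_exact C hg m.surjective_rangeRestrict x).1 hgx
  induction y using TensorProduct.induction_on with
  | zero => exact map_zero _
  | tmul c k => exact hK k.1 k.2 c
  | add a b ha hb =>
    have h0 : ∀ v, m.lTensor C ((LinearMap.ker m).subtype.lTensor C v) = 0 := fun v => by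
      rw [← LinearMap.comp_apply, ← LinearMap.lTensor_comp, LinearMap.comp_ker_subtype, LinearMap.lTensor_zero,
        LinearMap.zero_apply]
    have h1 : ∀ v, g.lTensor C ((LinearMap.ker m).subtype.lTensor C v) = 0 := fun v => by
      rw [← LinearMap.comp_apply, ← LinearMap.lTensor_comp, hg.linearMap_comp_eq_zero, LinearMap.lTensor_zero,
        LinearMap.zero_apply]
    rw [map_add, ha (h0 a) (h1 a), hb (h0 b) (h1 b), add_zero]

/-- From a Noetherian model to the limit. -/
theorem flat_at_of_model {R A M Q B : Type u} [CommRing R] [IsNoetherianRing R] [CommRing A] [Algebra R A]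
    [CommRing B] [Algebra A B]
    [CommRing M] [Algebra R M] [Algebra.FiniteType R M] [AddCommGroup Q] [Module R Q] [Module.Flat R Q]
    (t : M) (π : M →ₗ[R] Q) (hex : Function.Exact (LinearMap.mulLeft R t) π) (hπ : Function.Surjective π)
    (ε : A ⊗[R] M ≃ₐ[A] B) (t'' : B) (hεt : ε ((1 : A) ⊗ₜ[R] t) = t'')
    (ht : t'' ∈ nonZeroDivisors B) (q : Ideal B) [q.IsPrime]
    (htq : t'' ∈ q) : Module.Flat A (LocalizedModule q.primeCompl B) := by
  classical
  haveI : IsNoetherianRing M := Algebra.FiniteType.isNoetherianRing R M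
  let K : Ideal M := LinearMap.ker (LinearMap.mulLeft M t)
  obtain ⟨G, hG⟩ := IsNoetherian.noetherian K
  have hkill : ∀ g ∈ G, ∃ C : Subalgebra R A, C.FG ∧ (1 : C) ⊗ₜ[R] g = 0 := by
    intro g hg
    have hgK : t * g = 0 := by
      have : g ∈ K := hG ▸ Submodule.subset_span hg
      exact this
    have h0 : (1 : A) ⊗ₜ[R] g = 0 := by
      refine ε.injective ((ht.2 _ ?_).trans (map_zero ε).symm)
      rw [← hεt, ← map_mul, Algebra.TensorProduct.tmul_mul_tmul, one_mul, mul_comm, hgK, TensorProduct.tmul_zero,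
        map_zero]
    obtain ⟨C, hle, hC, heq⟩ := TensorProduct.Algebra.eq_of_fg_of_subtype_eq (N := M)
      (A := (⊥ : Subalgebra R A)) Subalgebra.fg_bot (t := (1 : (⊥ : Subalgebra R A)) ⊗ₜ[R] g) (t' := 0)
      (by rw [map_zero, LinearMap.rTensor_tmul]; exact h0)
    exact ⟨C, hC, by simpa using heq⟩
  choose! Cg hCg hCg0 using hkill
  let C : Subalgebra R A := G.sup Cg
  have hC : C.FG := Finset.sup_induction Subalgebra.fg_bot (fun a ha b hb => ha.sup hb) hCg
  haveI : IsNoetherianRing C := isNoetherianRing_of_fg hC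
  have hK : ∀ k ∈ LinearMap.ker (LinearMap.mulLeft R t), ∀ c : C, c ⊗ₜ[R] k = 0 := by
    intro k hk c
    have hk' : k ∈ Submodule.span M (G : Set M) := hG.symm ▸ (show k ∈ K from hk)
    have h1 : ∀ g ∈ G, (1 : C) ⊗ₜ[R] g = 0 := fun g hg => by
      have := congrArg ((Subalgebra.inclusion (Finset.le_sup (f := Cg) hg)).toLinearMap.rTensor M) (hCg0 g hg)
      simpa using this
    have h2 : (1 : C) ⊗ₜ[R] k = 0 := by
      clear hk
      induction hk' using Submodule.span_induction with
      | mem x hx => exact h1 x hx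
      | zero => exact TensorProduct.tmul_zero _ _
      | add x y _ _ hx hy => rw [TensorProduct.tmul_add, hx, hy, add_zero]
      | smul a x _ hx =>
        rw [smul_eq_mul, show (1 : C) ⊗ₜ[R] (a * x) = ((1 : C) ⊗ₜ[R] a) * ((1 : C) ⊗ₜ[R] x) by
          rw [Algebra.TensorProduct.tmul_mul_tmul, one_mul], hx, mul_zero]
    rw [show c ⊗ₜ[R] k = ((c : C) ⊗ₜ[R] (1 : M)) * ((1 : C) ⊗ₜ[R] k) by
      rw [Algebra.TensorProduct.tmul_mul_tmul, mul_one, one_mul], h2, mul_zero]
  have hinj := injective_lTensor_of_kills_ker (C := C) _ π hex hπ hK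
  have hm : ∀ w : C ⊗[R] M, ((1 : C) ⊗ₜ[R] t) * w = (LinearMap.mulLeft R t).lTensor C w := fun w => by
    induction w using TensorProduct.induction_on with
    | zero => simp
    | tmul c x => simp
    | add a b ha hb => simp only [mul_add, map_add, ha, hb]
  let t' : C ⊗[R] M := (1 : C) ⊗ₜ[R] t
  let π' : C ⊗[R] M →ₗ[C] C ⊗[R] Q := π.baseChange C
  have hex' : Function.Exact (LinearMap.mulLeft C t') π' := fun w => by
    refine (lTensor_exact C hex hπ w).trans ⟨?_, ?_⟩
    · rintro ⟨v, rfl⟩; exact ⟨v, hm v⟩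
    · rintro ⟨v, rfl⟩; exact ⟨v, (hm v).symm⟩
  let j : C ⊗[R] M →+* B :=
    ε.toAlgHom.toRingHom.comp (Algebra.TensorProduct.map C.val (AlgHom.id R M)).toRingHom
  let T : Submonoid (C ⊗[R] M) := (q.comap j).primeCompl
  have htq' : t' ∈ q.comap j := by
    show ε (Algebra.TensorProduct.map C.val (AlgHom.id R M) t') ∈ q
    simpa [t', hεt] using htq
  haveI : Module.Flat C (LocalizedModule T (C ⊗[R] M)) := by
    refine flat_at_of_noetherian t' (fun a b hab => hinj ?_) π' hex' (LinearMap.lTensor_surjective C hπ) T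
      fun r hr hrq => ?_
    · rw [← hm, ← hm]; exact hab
    · have : (1 : C ⊗[R] M) ∈ q.comap j := by
        rw [show (1 : C ⊗[R] M) = r - (r - 1) by ring]
        exact sub_mem hrq (Ideal.span_le.2 (Set.singleton_subset_iff.2 htq') hr)
      exact (Ideal.ne_top_iff_one _).1 (Ideal.IsPrime.ne_top inferInstance) this
  letI : Algebra (C ⊗[R] M) B := j.toAlgebra
  haveI : IsScalarTower C (C ⊗[R] M) B := ⟨fun c w b => by
    show j (c • w) * b = c • (j w * b)
    rw [Subalgebra.smul_def, Algebra.smul_def, ← mul_assoc]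
    congr 1
    show ε (Algebra.TensorProduct.map C.val (AlgHom.id R M) (c • w)) =
      algebraMap A B c * ε (Algebra.TensorProduct.map C.val (AlgHom.id R M) w)
    rw [← ε.commutes, ← map_mul]
    congr 1
    induction w using TensorProduct.induction_on with
    | zero => simp
    | tmul d x => simp [TensorProduct.smul_tmul', Algebra.TensorProduct.algebraMap_apply]
    | add u v hu hv => simp only [smul_add, map_add, mul_add, hu, hv]⟩
  let f : C ⊗[R] M →ₗ[C ⊗[R] M] B := Algebra.linearMap _ _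
  have hb : IsBaseChange A (f.restrictScalars C) := by
    refine IsBaseChange.of_equiv ((Algebra.TensorProduct.cancelBaseChange R C A A M).trans ε).toLinearEquiv
      fun x => ?_
    induction x using TensorProduct.induction_on with
    | zero => simp
    | tmul c y =>
      show ε (Algebra.TensorProduct.cancelBaseChange R C A A M (1 ⊗ₜ (c ⊗ₜ y))) =
        ε (Algebra.TensorProduct.map C.val (AlgHom.id R M) (c ⊗ₜ y))
      simp [Algebra.smul_def]
    | add a b ha hb => simp only [TensorProduct.tmul_add, map_add, ha, hb]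
  exact Groth.L20.flat_localizedModule_of_isBaseChange (R := C) (R' := A) f hb T q.primeCompl fun x hx => hx

set_option maxHeartbeats 800000 in
theorem flat_at_of_algebraModel {A B A₀ M₀ : Type u} [CommRing A] [CommRing B] [Algebra A B] [CommRing A₀]
    [IsNoetherianRing A₀] [Algebra A₀ A] [CommRing M₀] [Algebra A₀ M₀] [Algebra.FinitePresentation A₀ M₀]
    (eB : A ⊗[A₀] M₀ ≃ₐ[A] B) (t₀ : M₀) (t : B) (het : eB (1 ⊗ₜ t₀) = t)
    (ht : t ∈ nonZeroDivisors B) [Module.Flat A (B ⧸ Ideal.span {t})] (q : Ideal B) [q.IsPrime] (htq : t ∈ q) :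
    Module.Flat A (LocalizedModule q.primeCompl B) := by
  classical
  let Q₀ := M₀ ⧸ Ideal.span {t₀}
  let π₀ : M₀ →ₗ[A₀] Q₀ := (Ideal.Quotient.mkₐ A₀ _).toLinearMap
  have hex₀ : Function.Exact (LinearMap.mulLeft A₀ t₀) π₀ := fun x => by
    refine (Ideal.Quotient.eq_zero_iff_mem).trans (Ideal.mem_span_singleton'.trans ⟨?_, ?_⟩)
    · rintro ⟨a, ha⟩; exact ⟨a, (mul_comm t₀ a).trans ha⟩
    · rintro ⟨a, ha⟩; exact ⟨a, (mul_comm a t₀).trans ha⟩
  have hπ₀ : Function.Surjective π₀ := Ideal.Quotient.mk_surjective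
  haveI : Module.Flat A (A ⊗[A₀] Q₀) := by
    let F : A ⊗[A₀] M₀ →ₗ[A] B ⧸ Ideal.span {t} :=
      (Ideal.Quotient.mkₐ A _).toLinearMap ∘ₗ eB.toLinearMap
    have hm : ∀ w : A ⊗[A₀] M₀, (1 ⊗ₜ t₀) * w = (LinearMap.mulLeft A₀ t₀).lTensor A w := fun w => by
      induction w using TensorProduct.induction_on with
      | zero => simp
      | tmul c x => simp
      | add a b ha hb => simp only [mul_add, map_add, ha, hb]
    have hF : LinearMap.ker F = LinearMap.ker (π₀.baseChange A) := by
      ext w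
      have h1 : (π₀.baseChange A w = 0) ↔ ∃ v, (LinearMap.mulLeft A₀ t₀).lTensor A v = w :=
        lTensor_exact A hex₀ hπ₀ w
      rw [LinearMap.mem_ker, LinearMap.mem_ker, h1]
      refine (Ideal.Quotient.eq_zero_iff_mem).trans (Ideal.mem_span_singleton'.trans ⟨?_, ?_⟩)
      · rintro ⟨a, ha⟩
        refine ⟨eB.symm a, eB.injective ?_⟩
        rw [← hm, map_mul, AlgEquiv.apply_symm_apply, het, mul_comm]
        exact ha
      · rintro ⟨v, rfl⟩
        refine ⟨eB v, ?_⟩
        show _ = eB _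
        rw [← hm, map_mul, het, mul_comm]
    have hFs : Function.Surjective F := Ideal.Quotient.mk_surjective.comp eB.surjective
    have hπs : Function.Surjective (π₀.baseChange A) := LinearMap.lTensor_surjective A hπ₀
    exact Module.Flat.of_linearEquiv (((LinearMap.quotKerEquivOfSurjective _ hπs).symm ≪≫ₗ
      Submodule.quotEquivOfEq _ _ hF.symm) ≪≫ₗ LinearMap.quotKerEquivOfSurjective F hFs)
  haveI : Module.FinitePresentation M₀ Q₀ :=
    Module.finitePresentation_of_surjective (Submodule.mkQ (Ideal.span {t₀})) (Submodule.mkQ_surjective _)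
      (by rw [Submodule.ker_mkQ]; exact ⟨{t₀}, by simp⟩)
  obtain ⟨d, n, Z, hZ, K, ⟨e⟩⟩ := Groth.L07.FlatDescent.exists_model A₀ (B₀ := M₀) Q₀
  haveI := hZ
  obtain ⟨eK⟩ := Groth.L07.FlatDescent.exists_modelEquiv K e A
  haveI : Module.Flat A (Groth.L07.FlatDescent.MC A K) := Module.Flat.of_linearEquiv eK.symm
  obtain ⟨B', ⟨S, hS⟩, hB'⟩ := Groth.L07.FlatDescent.exists_fg_stage K A
  let C : Subalgebra A₀ A := Algebra.adjoin A₀ (S : Set A)
  haveI : IsNoetherianRing C := isNoetherianRing_of_fg (Subalgebra.fg_adjoin_finset S)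
  have hmem : ∀ b ∈ B', b ∈ C := by
    intro b hb
    rw [← hS] at hb
    induction hb using Algebra.adjoin_induction with
    | mem x hx => exact Algebra.subset_adjoin hx
    | algebraMap r => exact C.algebraMap_mem (algebraMap Z A₀ r)
    | add x y _ _ hx hy => exact C.add_mem hx hy
    | mul x y _ _ hx hy => exact C.mul_mem hx hy
  let χ : B' →+* C :=
    { toFun := fun b => ⟨b.1, hmem b.1 b.2⟩
      map_one' := rfl
      map_mul' := fun _ _ => rfl
      map_zero' := rfl
      map_add' := fun _ _ => rfl }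
  letI := χ.toAlgebra
  haveI : IsScalarTower Z B' C := IsScalarTower.of_algebraMap_eq fun r => rfl
  haveI : Module.Flat B' (Groth.L07.FlatDescent.MC B' K) := hB'
  haveI := Groth.L07.FlatDescent.flat_MC_of_flat K (A := B') (C := C)
  obtain ⟨e₂⟩ := Groth.L07.FlatDescent.exists_modelEquiv K e C
  haveI : Module.Flat C (C ⊗[A₀] Q₀) := Module.Flat.of_linearEquiv e₂
  have hm : ∀ w : C ⊗[A₀] M₀, ((1 : C) ⊗ₜ[A₀] t₀) * w = (LinearMap.mulLeft A₀ t₀).lTensor C w := fun w => by
    induction w using TensorProduct.induction_on with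
    | zero => simp
    | tmul c x => simp
    | add a b ha hb => simp only [mul_add, map_add, ha, hb]
  have hexC : Function.Exact (LinearMap.mulLeft C ((1 : C) ⊗ₜ[A₀] t₀)) (π₀.baseChange C) := fun w => by
    refine (lTensor_exact C hex₀ hπ₀ w).trans ⟨?_, ?_⟩
    · rintro ⟨v, rfl⟩; exact ⟨v, hm v⟩
    · rintro ⟨v, rfl⟩; exact ⟨v, (hm v).symm⟩
  let ε : A ⊗[C] (C ⊗[A₀] M₀) ≃ₐ[A] B := (Algebra.TensorProduct.cancelBaseChange A₀ C A A M₀).trans eB
  have hεt : ε (1 ⊗ₜ (1 ⊗ₜ t₀)) = t := by
    show eB (Algebra.TensorProduct.cancelBaseChange A₀ C A A M₀ (1 ⊗ₜ (1 ⊗ₜ t₀))) = t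
    rw [Algebra.TensorProduct.cancelBaseChange_tmul, one_smul, het]
  exact flat_at_of_model (A := A) (B := B) ((1 : C) ⊗ₜ[A₀] t₀) (π₀.baseChange C) hexC
    (LinearMap.lTensor_surjective C hπ₀) ε t hεt ht q htq

/-- `B` is flat over `A` at the points of a relative Cartier divisor flat over `A`. -/
theorem flat_at {A B : Type u} [CommRing A] [CommRing B] [Algebra A B] [Algebra.FinitePresentation A B] (t : B)
    (ht : t ∈ nonZeroDivisors B) [Module.Flat A (B ⧸ Ideal.span {t})] (q : Ideal B) [q.IsPrime] (htq : t ∈ q) :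
    Module.Flat A (LocalizedModule q.primeCompl B) := by
  classical
  let P := Algebra.Presentation.ofFinitePresentation A B
  obtain ⟨p, hp⟩ : ∃ p, MvPolynomial.aeval P.val p = t := ⟨P.σ t, P.aeval_val_σ t⟩
  let A₀ : Subalgebra ℤ A := Algebra.adjoin ℤ (P.coeffs ∪ (p.coeffs : Set A))
  haveI : IsNoetherianRing A₀ := by
    refine isNoetherianRing_of_fg ⟨P.finite_coeffs.toFinset ∪ p.coeffs, ?_⟩
    simp [A₀]
  haveI : P.HasCoeffs A₀ := ⟨fun x hx => ⟨⟨x, Algebra.subset_adjoin (Or.inl hx)⟩, rfl⟩⟩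
  obtain ⟨p₀, hp₀⟩ : ∃ p₀, MvPolynomial.map (algebraMap A₀ A) p₀ = p := by
    refine MvPolynomial.mem_range_map_iff_coeffs_subset.2 fun x hx => ⟨⟨x, Algebra.subset_adjoin (Or.inr hx)⟩, rfl⟩
  let M₀ := P.ModelOfHasCoeffs A₀
  let eB : A ⊗[A₀] M₀ ≃ₐ[A] B := P.tensorModelOfHasCoeffsEquiv A₀
  let t₀ : M₀ := Ideal.Quotient.mk _ p₀
  have het : eB (1 ⊗ₜ t₀) = t := by
    show P.tensorModelOfHasCoeffsHom A₀ (1 ⊗ₜ Ideal.Quotient.mk _ p₀) = t
    rw [Algebra.Presentation.tensorModelOfHasCoeffsHom_tmul, map_one, one_mul, ← MvPolynomial.aeval_map_algebraMap A,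
      hp₀, hp]
  haveI : Algebra.FinitePresentation A₀ M₀ := inferInstance
  exact flat_at_of_algebraModel eB t₀ t het ht q htq

end Groth.L02.RelCartier
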