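import Groth.Agent.L02.RelCartier.Main
import Groth.Agent.L02.RelCartier.FlatNearby
import Groth.Agent.L20.FlatStalk
import Mathlib.RingTheory.Ideal.MinimalPrime.Noetherian
import Mathlib.LinearAlgebra.TensorProduct.Pi

/-!
Flatness near a relative Cartier divisor, and comparison of relative divisors fibre by fibre.
-/

set_option autoImplicit false
set_option linter.style.haveILetI false

universe u

open CategoryTheory CategoryTheory.Limits AlgebraicGeometry TopologicalSpace
open scoped TensorProduct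

namespace Groth.L02.RelCartier

open Groth.L13.BU

/-- An element of a flat module over a reduced Noetherian ring vanishing on every fibre is zero. -/
theorem eq_zero_of_forall_tmul {A M : Type u} [CommRing A] [IsNoetherianRing A] [_root_.IsReduced A]
    [AddCommGroup M] [Module A M] [Module.Flat A M] (m : M)
    (h : ∀ (p : Ideal A) [p.IsPrime], m ⊗ₜ[A] (1 : p.ResidueField) = 0) : m = 0 := by
  classical
  haveI : Finite (minimalPrimes A) := (minimalPrimes.finite_of_isNoetherianRing A).to_subtype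
  haveI : Fintype (minimalPrimes A) := Fintype.ofFinite _
  haveI hp : ∀ i : minimalPrimes A, i.1.IsPrime := fun i => i.2.1.1
  let ψ : A →ₗ[A] ∀ i : minimalPrimes A, i.1.ResidueField :=
    LinearMap.pi fun i => Algebra.linearMap A i.1.ResidueField
  have hψ : Function.Injective ψ := by
    rw [injective_iff_map_eq_zero]
    intro a ha
    have h1 : a ∈ sInf (⊥ : Ideal A).minimalPrimes := Ideal.mem_sInf.2 fun {p} hp' => by
      haveI := hp'.1.1
      exact Ideal.algebraMap_residueField_eq_zero.1 (congrFun ha ⟨p, hp'⟩)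
    rw [Ideal.sInf_minimalPrimes] at h1
    obtain ⟨n, hn⟩ := h1
    exact IsReduced.eq_zero a ⟨n, by simpa using hn⟩
  have h2 : ψ.lTensor M (m ⊗ₜ[A] (1 : A)) = 0 := by
    apply (TensorProduct.piRight A A M (fun i : minimalPrimes A => i.1.ResidueField)).injective
    rw [map_zero, LinearMap.lTensor_tmul, TensorProduct.piRight_apply]
    funext i
    simpa [ψ] using h i.1
  have h3 : m ⊗ₜ[A] (1 : A) = 0 :=
    Module.Flat.lTensor_preserves_injective_linearMap (M := M) ψ hψ (by rw [h2, map_zero])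
  simpa using congrArg (TensorProduct.rid A M) h3

/-- Membership in a principal ideal with flat quotient can be tested on fibres. -/
theorem mem_span_of_fibres {A B : Type u} [CommRing A] [IsNoetherianRing A] [_root_.IsReduced A] [CommRing B]
    [Algebra A B] (t t' : B) [Module.Flat A (B ⧸ Ideal.span {t'})]
    (h : ∀ (p : Ideal A) [p.IsPrime], t ⊗ₜ[A] (1 : p.ResidueField) ∈
      Ideal.span ({t' ⊗ₜ[A] (1 : p.ResidueField)} : Set (B ⊗[A] p.ResidueField))) :
    t ∈ Ideal.span {t'} := by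
  rw [← Ideal.Quotient.eq_zero_iff_mem]
  refine eq_zero_of_forall_tmul (A := A) _ fun p _ => ?_
  let F := Algebra.TensorProduct.map (Ideal.Quotient.mkₐ A (Ideal.span {t'})) (AlgHom.id A p.ResidueField)
  obtain ⟨c, hc⟩ := Ideal.mem_span_singleton'.1 (h p)
  have := congrArg F hc
  rw [map_mul, Algebra.TensorProduct.map_tmul, Algebra.TensorProduct.map_tmul] at this
  simp only [Ideal.Quotient.mkₐ_eq_mk, AlgHom.id_apply] at this
  rw [← this, show Ideal.Quotient.mk (Ideal.span {t'}) t' = 0 from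
    Ideal.Quotient.eq_zero_iff_mem.2 (Ideal.mem_span_singleton_self t'), TensorProduct.zero_tmul, mul_zero]

variable {X S : Scheme.{u}}

/-- The fibre ring of a chart maps to a fibre. -/
theorem exists_factor (φ : X ⟶ S) {A B K : Type u} [CommRing A] [CommRing B] [Field K] [Algebra A B] [Algebra A K]
    (jA : Spec (CommRingCat.of A) ⟶ S) (jB : Spec (CommRingCat.of B) ⟶ X)
    (hj : Spec.map (CommRingCat.ofHom (algebraMap A B)) ≫ jA = jB ≫ φ) :
    ∃ (s : S) (j : Spec (CommRingCat.of (B ⊗[A] K)) ⟶ φ.fiber s),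
      Spec.map (CommRingCat.ofHom (Algebra.TensorProduct.includeLeftRingHom : B →+* B ⊗[A] K)) ≫ jB =
        j ≫ φ.fiberι s := by
  obtain ⟨⟨s, a⟩, ha⟩ := (Scheme.SpecToEquivOfField K S).symm.surjective
    (Spec.map (CommRingCat.ofHom (algebraMap A K)) ≫ jA)
  refine ⟨s, pullback.lift _ (Spec.map (CommRingCat.ofHom
    (Algebra.TensorProduct.includeRight : K →ₐ[A] B ⊗[A] K).toRingHom) ≫ Spec.map a) ?_,
    (pullback.lift_fst _ _ _).symm⟩
  rw [Category.assoc, ← hj, Category.assoc,
    show Spec.map a ≫ S.fromSpecResidueField s = Spec.map (CommRingCat.ofHom (algebraMap A K)) ≫ jA from ha,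
    reassoc_of% (isPullback_SpecMap_of_isPushout _ _ _ _ (CommRingCat.isPushout_tensorProduct A B K)).w]

theorem le_of_idealOf_le {C : Type u} [CommRing C] {I I' : Ideal C} (h : idealOf I ≤ idealOf I') : I ≤ I' := by
  intro x hx
  have h1 := h ⟨⊤, isAffineOpen_top _⟩ (by rw [idealOf_top]; exact Ideal.mem_map_of_mem _ hx)
  rw [idealOf_top] at h1
  have h2 := Ideal.mem_map_of_mem (Scheme.ΓSpecIso (CommRingCat.of C)).hom.hom h1
  rw [Ideal.map_map, ← CommRingCat.hom_comp, Iso.inv_hom_id, CommRingCat.hom_id, Ideal.map_id,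
    ← RingHom.comp_apply, ← CommRingCat.hom_comp, Iso.inv_hom_id] at h2
  exact h2

theorem core_mem (φ : X ⟶ S) (D D' : X.IdealSheafData)
    (hfib : ∀ s : S, D.comap (φ.fiberι s) ≤ D'.comap (φ.fiberι s))
    {A B : CommRingCat.{u}} [IsNoetherianRing A] [_root_.IsReduced A] (f : A ⟶ B)
    (jA : Spec A ⟶ S) (jB : Spec B ⟶ X) (hj : Spec.map f ≫ jA = jB ≫ φ)
    (t t' : B) (hflat : ((Ideal.Quotient.mk (Ideal.span {t'})).comp f.hom).Flat)
    (hD : D.comap jB = idealOf (Ideal.span {t})) (hD' : D'.comap jB = idealOf (Ideal.span {t'})) :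
    t ∈ Ideal.span {t'} := by
  algebraize [f.hom]
  haveI : Module.Flat A (B ⧸ Ideal.span {t'}) := (RingHom.flat_algebraMap_iff).1 hflat
  refine mem_span_of_fibres (A := A) t t' fun p _ => ?_
  obtain ⟨s, j, hsj⟩ := exists_factor φ (A := A) (B := B) (K := p.ResidueField) jA jB hj
  have h := (Scheme.IdealSheafData.map_gc j).monotone_l (hfib s)
  rw [← Scheme.IdealSheafData.comap_comp, ← Scheme.IdealSheafData.comap_comp, ← hsj,
    Scheme.IdealSheafData.comap_comp, Scheme.IdealSheafData.comap_comp, hD, hD', comap_idealOf,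
    comap_idealOf, Ideal.map_span, Ideal.map_span, Set.image_singleton, Set.image_singleton] at h
  exact le_of_idealOf_le h (Ideal.mem_span_singleton_self _)

theorem le_of_fibres (φ : X ⟶ S) [IsLocallyNoetherian S] [AlgebraicGeometry.IsReduced S]
    (D D' : X.IdealSheafData) (hD : BlowUp.IsEffCartierIdeal D)
    (hD' : BlowUp.IsEffCartierIdeal D') [Flat (D'.subschemeι ≫ φ)]
    (hfib : ∀ s : S, D.comap (φ.fiberι s) ≤ D'.comap (φ.fiberι s)) : D ≤ D' := by
  have h : ∀ x : X, ∃ V : X.affineOpens, x ∈ V.1 ∧ D.ideal V ≤ D'.ideal V := by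
    intro x
    obtain ⟨U₁, hx₁, t₁, -, -, hU₁⟩ := Groth.L22.Ideals.exists_generator hD x
    obtain ⟨U₂, hx₂, t₂, -, -, hU₂⟩ := Groth.L22.Ideals.exists_generator hD' x
    obtain ⟨U, V, e, hxV, hle, -⟩ := Groth.L22.Ideals.exists_affine_pair φ x
      (show x ∈ U₁.1 ⊓ U₂.1 from ⟨hx₁, hx₂⟩) (W' := ⊤) trivial
    obtain ⟨-, he₁⟩ := hU₁ V (fun y hy => (hle hy).1)
    obtain ⟨-, he₂⟩ := hU₂ V (fun y hy => (hle hy).2)
    have e' : D'.subschemeι ⁻¹ᵁ V.1 ≤ (D'.subschemeι ≫ φ) ⁻¹ᵁ U.1 := fun y hy => e hy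
    have hflat := (flat_appLE_subscheme_iff φ D' U V e e').1
      ((D'.subschemeι ≫ φ).flat_appLE U.2 (V.2.preimage D'.subschemeι) e')
    rw [he₂] at hflat
    haveI : IsNoetherianRing Γ(S, U.1) := IsLocallyNoetherian.component_noetherian U
    refine ⟨V, hxV, ?_⟩
    rw [he₁, he₂, Ideal.span_singleton_le_iff_mem]
    exact core_mem φ D D' hfib (φ.appLE U.1 V.1 e) U.2.fromSpec V.2.fromSpec (hj_fromSpec φ U V e) _ _ hflat
      (by rw [comap_fromSpec, he₁]) (by rw [comap_fromSpec, he₂])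
  choose V hxV hV using h
  exact Scheme.IdealSheafData.le_of_iSup_eq_top V (eq_top_iff.2 fun x _ => Opens.mem_iSup.2 ⟨x, hxV x⟩) hV

theorem core_flat_at {A B : CommRingCat.{u}} (f : A ⟶ B) (hfp : f.hom.FinitePresentation) (t : B)
    (ht : t ∈ nonZeroDivisors B) (hflat : ((Ideal.Quotient.mk (Ideal.span {t})).comp f.hom).Flat)
    (q : Ideal B) [q.IsPrime] (htq : t ∈ q) :
    letI := f.hom.toAlgebra
    Module.Flat A (LocalizedModule q.primeCompl B) := by
  letI := f.hom.toAlgebra
  haveI : Algebra.FinitePresentation A B := hfp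
  haveI : Module.Flat A (B ⧸ Ideal.span {t}) := (RingHom.flat_algebraMap_iff).1 hflat
  exact flat_at (A := A) t ht q htq

theorem exists_flat_open (f : X ⟶ S) [LocallyOfFinitePresentation f] (J : X.IdealSheafData)
    (hJ : BlowUp.IsEffCartierIdeal J) [Flat (J.subschemeι ≫ f)] :
    ∃ U : X.Opens, (J.support : Set X) ⊆ U ∧ Flat (U.ι ≫ f) := by
  let W : X.Opens := ⟨{x | (f.stalkMap x).hom.Flat}, Groth.L20.isOpen_flat_stalkMap f⟩
  refine ⟨W, fun x hx => ?_, ?_⟩
  · obtain ⟨U₁, hx₁, t₁, -, -, hU₁⟩ := Groth.L22.Ideals.exists_generator hJ x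
    obtain ⟨U, V, e, hxV, hle, -⟩ := Groth.L22.Ideals.exists_affine_pair f x hx₁ (W' := ⊤) trivial
    obtain ⟨hn, he⟩ := hU₁ V hle
    have e' : J.subschemeι ⁻¹ᵁ V.1 ≤ (J.subschemeι ≫ f) ⁻¹ᵁ U.1 := fun y hy => e hy
    have hflat := (flat_appLE_subscheme_iff f J U V e e').1
      ((J.subschemeι ≫ f).flat_appLE U.2 (V.2.preimage J.subschemeι) e')
    rw [he] at hflat
    have htq : X.presheaf.map (homOfLE hle).op t₁ ∈ (V.2.primeIdealOf ⟨x, hxV⟩).asIdeal := by
      by_contra hc
      have hb : x ∈ X.basicOpen (X.presheaf.map (homOfLE hle).op t₁) := by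
        refine (X.mem_basicOpen _ x hxV).2 ?_
        letI : Algebra Γ(X, V.1) (X.presheaf.stalk x) :=
          TopCat.Presheaf.algebra_section_stalk X.presheaf ⟨x, hxV⟩
        haveI := V.2.isLocalization_stalk ⟨x, hxV⟩
        exact IsLocalization.map_units (X.presheaf.stalk x)
          (⟨_, hc⟩ : (V.2.primeIdealOf ⟨x, hxV⟩).asIdeal.primeCompl)
      have hz := (Scheme.IdealSheafData.mem_support_iff_of_mem hxV).1 hx
      rw [Scheme.mem_zeroLocus_iff] at hz
      exact hz _ (he ▸ Ideal.mem_span_singleton_self _) hb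
    exact (Groth.L20.flat_stalkMap_iff f U.2 V.2 e hxV).2
      (core_flat_at (f.appLE U.1 V.1 e) (HasRingHomProperty.appLE @LocallyOfFinitePresentation _ ‹_› U V e)
        _ hn hflat _ htq)
  · rw [Flat.iff_flat_stalkMap]
    intro y
    rw [Scheme.Hom.stalkMap_comp]
    haveI : IsIso (W.ι.stalkMap y) := inferInstance
    exact RingHom.Flat.comp (g := (W.ι.stalkMap y).hom) y.2
      (RingHom.Flat.of_bijective (ConcreteCategory.bijective_of_isIso (W.ι.stalkMap y)))

end Groth.L02.RelCartier
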