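import Groth.Agent.L02.RelCartier.Main
import Mathlib.RingTheory.Flat.FaithfullyFlat.Algebra
import Mathlib.RingTheory.Flat.Stability

/-!
Effective Cartier ideals descend along flat surjective morphisms to locally Noetherian schemes.
-/

set_option autoImplicit false
set_option linter.style.haveILetI false

universe u

open CategoryTheory CategoryTheory.Limits AlgebraicGeometry TopologicalSpace
open scoped nonZeroDivisors

namespace Groth.L02.RelCartier

/-- In a local ring, a principal ideal generated by a regular element, spanned by a set, is generated by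
one of the spanning elements. -/
theorem exists_generator_mem {L : Type u} [CommRing L] [IsLocalRing L] (s : Set L) (t : L)
    (ht : t ∈ L⁰) (h : Ideal.span s = Ideal.span {t}) : ∃ y ∈ s, Ideal.span s = Ideal.span {y} := by
  let S : Ideal L := Ideal.span {d | d * t ∈ s}
  have hP : ∀ z ∈ Ideal.span s, ∃ e ∈ S, z = e * t := by
    intro z hz
    induction hz using Submodule.span_induction with
    | mem x hx =>
      obtain ⟨d, rfl⟩ := Ideal.mem_span_singleton'.1 (h ▸ Ideal.subset_span hx : x ∈ Ideal.span {t})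
      exact ⟨d, Ideal.subset_span hx, rfl⟩
    | zero => exact ⟨0, zero_mem _, by simp⟩
    | add x y _ _ hx hy =>
      obtain ⟨a, ha, rfl⟩ := hx
      obtain ⟨b, hb, rfl⟩ := hy
      exact ⟨a + b, add_mem ha hb, by ring⟩
    | smul c x _ hx =>
      obtain ⟨a, ha, rfl⟩ := hx
      exact ⟨c * a, S.mul_mem_left c ha, by rw [smul_eq_mul]; ring⟩
  obtain ⟨e, he, het⟩ := hP t (h.symm ▸ Ideal.mem_span_singleton_self t)
  have he1 : e = 1 := (mul_cancel_right_mem_nonZeroDivisors ht).1 (by rw [one_mul]; exact het.symm)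
  obtain ⟨d, hd, hdu⟩ : ∃ d, d * t ∈ s ∧ IsUnit d := by
    by_contra hcon
    push Not at hcon
    have : S ≤ IsLocalRing.maximalIdeal L := Ideal.span_le.2 fun d hd =>
      (IsLocalRing.mem_maximalIdeal d).2 (hcon d hd)
    exact (IsLocalRing.maximalIdeal.isMaximal L).ne_top ((Ideal.eq_top_iff_one _).2 (this (he1 ▸ he)))
  exact ⟨d * t, hd, by rw [h, Ideal.span_singleton_mul_left_unit hdu]⟩

/-- Descent of a regular principal ideal along a flat map, near a prime. -/
theorem exists_descend_principal {B B' : Type u} [CommRing B] [IsNoetherianRing B] [CommRing B'] [Algebra B B']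
    [Module.Flat B B'] (I : Ideal B) (q' : Ideal B') [q'.IsPrime] (t' : B') (ht' : t' ∈ B'⁰)
    (hI : I.map (algebraMap B B') = Ideal.span {t'}) :
    ∃ h ∉ q'.comap (algebraMap B B'), ∃ y ∈ I, ∀ (R : Type u) [CommRing R] [Algebra B R]
      [IsLocalization.Away h R], algebraMap B R y ∈ R⁰ ∧ I.map (algebraMap B R) = Ideal.span {algebraMap B R y} := by
  classical
  let q := q'.comap (algebraMap B B')
  let L := Localization.AtPrime q
  let L' := Localization.AtPrime q'
  letI : Algebra L L' := (Localization.localRingHom q q' (algebraMap B B') rfl).toAlgebra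
  haveI : IsScalarTower B L L' := IsScalarTower.of_algebraMap_eq fun x => by
    rw [RingHom.algebraMap_toAlgebra, Localization.localRingHom_to_map, ← IsScalarTower.algebraMap_apply]
  haveI : IsLocalHom (algebraMap L L') := Localization.isLocalHom_localRingHom q q' (algebraMap B B') rfl
  haveI : Module.Flat B L' := Module.Flat.trans B B' L'
  haveI : Module.Flat L L' := (Module.flat_iff_of_isLocalization L q.primeCompl L').2 inferInstance
  haveI : Module.FaithfullyFlat L L' := Module.FaithfullyFlat.of_flat_of_isLocalHom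
  have hinj : Function.Injective (algebraMap L L') := by
    rw [RingHom.injective_iff_ker_eq_bot, RingHom.ker]
    have := Ideal.comap_map_eq_self_of_faithfullyFlat (A := L) (B := L') ⊥
    rwa [Ideal.map_bot] at this
  have ht : algebraMap B' L' t' ∈ L'⁰ :=
    IsLocalization.map_nonZeroDivisors_le q'.primeCompl L' (Submonoid.mem_map_of_mem _ ht')
  have hspan : Ideal.span (algebraMap B L' '' I) = Ideal.span {algebraMap B' L' t'} := by
    rw [show Ideal.span (algebraMap B L' '' I) = I.map (algebraMap B L') from rfl,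
      IsScalarTower.algebraMap_eq B B' L', ← Ideal.map_map, hI, Ideal.map_span, Set.image_singleton]
  obtain ⟨_, ⟨y, hy, rfl⟩, hgen⟩ := exists_generator_mem _ _ ht hspan
  have hL : I.map (algebraMap B L) = Ideal.span {algebraMap B L y} := by
    rw [← Ideal.comap_map_eq_self_of_faithfullyFlat (B := L') (I.map (algebraMap B L)),
      Ideal.map_map, ← IsScalarTower.algebraMap_eq, show I.map (algebraMap B L') = Ideal.span {algebraMap B L' y} from hgen,
      IsScalarTower.algebraMap_apply B L L', ← Set.image_singleton (f := algebraMap L L'), ← Ideal.map_span,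
      Ideal.comap_map_eq_self_of_faithfullyFlat]
  have hynzd : algebraMap B L y ∈ L⁰ := by
    rw [mem_nonZeroDivisors_iff_right]
    intro z hz
    refine hinj ?_
    rw [map_zero]
    have hd : algebraMap B' L' t' ∈ Ideal.span {algebraMap B L' y} :=
      hgen ▸ hspan.symm ▸ Ideal.mem_span_singleton_self _
    obtain ⟨d, hd⟩ := Ideal.mem_span_singleton'.1 hd
    refine ht.2 _ ?_
    rw [← hd, IsScalarTower.algebraMap_apply B L L', mul_left_comm, ← map_mul, hz, map_zero, mul_zero]
  let N : Ideal B := LinearMap.ker (LinearMap.mulLeft B y)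
  obtain ⟨G, hG⟩ := IsNoetherian.noetherian I
  obtain ⟨G', hG'⟩ := IsNoetherian.noetherian N
  have h1 : ∀ x ∈ G, ∃ s ∉ q, s * x ∈ Ideal.span {y} := by
    intro x hx
    have : algebraMap B L x ∈ (Ideal.span {y}).map (algebraMap B L) := by
      rw [Ideal.map_span, Set.image_singleton, ← hL]
      exact Ideal.mem_map_of_mem _ (hG ▸ Submodule.subset_span hx)
    obtain ⟨s, hs, hsx⟩ := (IsLocalization.algebraMap_mem_map_algebraMap_iff q.primeCompl L _ x).1 this
    exact ⟨s, hs, hsx⟩
  have h2 : ∀ z ∈ G', ∃ s ∉ q, s * z = 0 := by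
    intro z hz
    have hzy : y * z = 0 := (hG' ▸ Submodule.subset_span hz : z ∈ N)
    have hz0 : algebraMap B L z = 0 := hynzd.2 _ (by rw [← map_mul, mul_comm, hzy, map_zero])
    obtain ⟨s, hs⟩ := (IsLocalization.map_eq_zero_iff q.primeCompl L z).1 hz0
    exact ⟨s, s.2, hs⟩
  choose! s₁ hs₁ hsx₁ using h1
  choose! s₂ hs₂ hsx₂ using h2
  let h := (∏ x ∈ G, s₁ x) * ∏ z ∈ G', s₂ z
  refine ⟨h, fun hc => ?_, y, hy, fun R _ _ _ => ?_⟩
  · rcases Ideal.IsPrime.mem_or_mem (I := q) inferInstance hc with hc | hc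
    · obtain ⟨x, hx, hxq⟩ := (Ideal.IsPrime.prod_mem_iff (p := q)).1 hc
      exact hs₁ x hx hxq
    · obtain ⟨x, hx, hxq⟩ := (Ideal.IsPrime.prod_mem_iff (p := q)).1 hc
      exact hs₂ x hx hxq
  · have hNz : ∀ z ∈ N, h * z = 0 := by
      intro z hz
      rw [← hG'] at hz
      induction hz using Submodule.span_induction with
      | mem x hx =>
        obtain ⟨r, hr⟩ := Finset.dvd_prod_of_mem s₂ (show x ∈ G' from hx)
        show (∏ x ∈ G, s₁ x) * (∏ z ∈ G', s₂ z) * x = 0
        rw [hr, mul_assoc, mul_comm (s₂ x) r, mul_assoc r, hsx₂ x hx, mul_zero, mul_zero]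
      | zero => exact mul_zero _
      | add a b _ _ ha hb => rw [mul_add, ha, hb, add_zero]
      | smul c a _ ha => rw [smul_eq_mul, mul_left_comm, ha, mul_zero]
    refine ⟨?_, ?_⟩
    · rw [mem_nonZeroDivisors_iff_right]
      intro r hr
      obtain ⟨⟨z, ⟨_, n, rfl⟩⟩, hrz⟩ := IsLocalization.surj (Submonoid.powers h) r
      have h3 : algebraMap B R (z * y) = 0 := by
        rw [map_mul, ← hrz, mul_right_comm, hr, zero_mul]
      obtain ⟨⟨_, m, rfl⟩, hm⟩ := (IsLocalization.map_eq_zero_iff (Submonoid.powers h) R _).1 h3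
      have h4 := hNz (h ^ m * z) (show y * (h ^ m * z) = 0 by rw [mul_comm, mul_assoc]; exact hm)
      have h5 : algebraMap B R z = 0 := (IsLocalization.map_eq_zero_iff (Submonoid.powers h) R z).2
        ⟨⟨h ^ (m + 1), m + 1, rfl⟩, by show h ^ (m + 1) * z = 0; rw [pow_succ', mul_assoc]; exact h4⟩
      rw [h5] at hrz
      exact (IsUnit.mul_left_eq_zero (IsLocalization.map_units R (⟨h ^ n, n, rfl⟩ : Submonoid.powers h))).1 hrz
    · refine le_antisymm ?_ ((Ideal.span_singleton_le_iff_mem _).2 (Ideal.mem_map_of_mem _ hy))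
      rw [Ideal.map_le_iff_le_comap, ← hG]
      refine Submodule.span_le.2 fun x hx => ?_
      rw [SetLike.mem_coe, Ideal.mem_comap,
        ← Ideal.unit_mul_mem_iff_mem _ (IsLocalization.Away.algebraMap_isUnit h), ← map_mul,
        ← Set.image_singleton, ← Ideal.map_span]
      refine Ideal.mem_map_of_mem _ ?_
      obtain ⟨r, hr⟩ := Finset.dvd_prod_of_mem s₁ (show x ∈ G from hx)
      show (∏ x ∈ G, s₁ x) * (∏ z ∈ G', s₂ z) * x ∈ _
      rw [hr, show s₁ x * r * (∏ z ∈ G', s₂ z) * x = (r * ∏ z ∈ G', s₂ z) * (s₁ x * x) by ring]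
      exact Ideal.mul_mem_left _ _ (hsx₁ x hx)

theorem core_descend {B B' : CommRingCat.{u}} [IsNoetherianRing B] (f : B ⟶ B') (hf : f.hom.Flat) (I : Ideal B)
    (q' : Ideal B') [q'.IsPrime] (t' : B') (ht' : t' ∈ (B' : Type u)⁰) (hI : I.map f.hom = Ideal.span {t'}) :
    ∃ h ∉ q'.comap f.hom, ∃ y ∈ I, ∀ (R : Type u) [CommRing R] [Algebra B R]
      [IsLocalization.Away h R], algebraMap B R y ∈ R⁰ ∧ I.map (algebraMap B R) = Ideal.span {algebraMap B R y} := by
  algebraize [f.hom]
  exact exists_descend_principal I q' t' ht' hI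

/-- Effective Cartier ideals descend along flat surjective morphisms. -/
theorem isEffCartier_of_comap_flat_surjective {X X' : Scheme.{u}} [IsLocallyNoetherian X] (g : X' ⟶ X) [Flat g]
    [Surjective g] (I : X.IdealSheafData) (h : BlowUp.IsEffCartierIdeal (I.comap g)) :
    BlowUp.IsEffCartierIdeal I := by
  intro x
  obtain ⟨x', rfl⟩ := g.surjective x
  obtain ⟨U₁, hx₁, t₁, -, -, hU₁⟩ := Groth.L22.Ideals.exists_generator h x'
  obtain ⟨V, V', e, hxV', hle, -⟩ := Groth.L22.Ideals.exists_affine_pair g x' hx₁ (W' := ⊤) trivial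
  obtain ⟨hn, he⟩ := hU₁ V' hle
  rw [Groth.L22.Ideals.comap_ideal g I V V' e] at he
  haveI : IsNoetherianRing Γ(X, V.1) := IsLocallyNoetherian.component_noetherian V
  obtain ⟨a, ha, y, -, hR⟩ := core_descend (g.appLE V.1 V'.1 e) (g.flat_appLE V.2 V'.2 e) (I.ideal V)
    (V'.2.primeIdealOf ⟨x', hxV'⟩).asIdeal _ hn he
  have hxV : g x' ∈ V.1 := e hxV'
  have hxa : g x' ∈ X.basicOpen a := by
    refine (X.mem_basicOpen a _ hxV).2 ?_
    letI : Algebra Γ(X, V.1) (X.presheaf.stalk (g x')) :=
      TopCat.Presheaf.algebra_section_stalk X.presheaf ⟨g x', hxV⟩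
    haveI := V.2.isLocalization_stalk ⟨g x', hxV⟩
    refine IsLocalization.map_units (X.presheaf.stalk (g x'))
      (⟨a, ?_⟩ : (V.2.primeIdealOf ⟨g x', hxV⟩).asIdeal.primeCompl)
    intro hc
    refine ha ?_
    have := congr($(IsAffineOpen.comap_primeIdealOf_appLE V.1 V.2 V'.1 V'.2 e hxV').1)
    exact this.ge hc
  haveI := V.2.isLocalization_basicOpen a
  obtain ⟨h1, h2⟩ := hR Γ(X, X.basicOpen a)
  refine ⟨⟨X.basicOpen a, V.2.basicOpen a⟩, hxa, _, h1, ?_⟩
  rw [← Scheme.IdealSheafData.map_ideal I (U := ⟨X.basicOpen a, V.2.basicOpen a⟩) (V := V) (X.basicOpen_le a)]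
  exact h2

end Groth.L02.RelCartier
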