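import Groth.Agent.L02.RelCartier.Scheme
import Groth.Prelude.Def_CurvBase
import Mathlib.AlgebraicGeometry.IdealSheaf.Subscheme

/-!
Relative effective Cartier divisors from the fibres.
-/

set_option autoImplicit false
set_option linter.style.haveILetI false

universe u

open CategoryTheory CategoryTheory.Limits AlgebraicGeometry TopologicalSpace

namespace Groth.L02.RelCartier

variable {X S : Scheme.{u}}

theorem hj_fromSpec (φ : X ⟶ S) (U : S.affineOpens) (V : X.affineOpens) (e : V.1 ≤ φ ⁻¹ᵁ U.1) :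
    Spec.map (φ.appLE U.1 V.1 e) ≫ U.2.fromSpec = V.2.fromSpec ≫ φ :=
  IsAffineOpen.SpecMap_appLE_fromSpec φ U.2 V.2 e

/-- Locally principal on some affine neighbourhood of each point. -/
theorem exists_pair_of_principal (φ : X ⟶ S) (J : X.IdealSheafData) (x : X) (V₀ : X.affineOpens)
    (hx : x ∈ V₀.1) (t : Γ(X, V₀.1)) (ht : J.ideal V₀ = Ideal.span {t}) :
    ∃ (U : S.affineOpens) (V : X.affineOpens) (_ : V.1 ≤ φ ⁻¹ᵁ U.1),
      x ∈ V.1 ∧ ∃ t : Γ(X, V.1), J.ideal V = Ideal.span {t} := by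
  obtain ⟨U, V, e, hxV, hVV₀, -⟩ := Groth.L22.Ideals.exists_affine_pair φ x hx (W' := ⊤) trivial
  refine ⟨U, V, e, hxV, X.presheaf.map (homOfLE hVV₀).op t, ?_⟩
  rw [← Scheme.IdealSheafData.map_ideal J (U := V) (V := V₀) hVV₀, ht, Ideal.map_span, Set.image_singleton]
  rfl

theorem exists_principal_of_not_mem_support (J : X.IdealSheafData) (x : X) (hx : x ∉ J.support) :
    ∃ V₀ : X.affineOpens, x ∈ V₀.1 ∧ ∃ t : Γ(X, V₀.1), J.ideal V₀ = Ideal.span {t} := by
  obtain ⟨_, ⟨U, hU, rfl⟩, hxU, -⟩ := X.isBasis_affineOpens.exists_subset_of_mem_open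
    (Set.mem_univ x) isOpen_univ
  rw [Scheme.IdealSheafData.mem_support_iff_of_mem (U := ⟨U, hU⟩) hxU, Scheme.mem_zeroLocus_iff] at hx
  push Not at hx
  obtain ⟨f, hf, hxf⟩ := hx
  refine ⟨⟨X.basicOpen f, hU.basicOpen f⟩, hxf, 1, ?_⟩
  rw [Ideal.span_singleton_one, Ideal.eq_top_iff_one,
    ← Scheme.IdealSheafData.map_ideal J (U := ⟨X.basicOpen f, hU.basicOpen f⟩) (V := ⟨U, hU⟩) (X.basicOpen_le f),
    ← Ideal.eq_top_iff_one]
  exact Ideal.eq_top_of_isUnit_mem _ (Ideal.mem_map_of_mem _ hf) (X.toRingedSpace.isUnit_res_basicOpen f)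

theorem flat_appLE_subscheme_iff (φ : X ⟶ S) (J : X.IdealSheafData) (U : S.affineOpens) (V : X.affineOpens)
    (e : V.1 ≤ φ ⁻¹ᵁ U.1) (e' : J.subschemeι ⁻¹ᵁ V.1 ≤ (J.subschemeι ≫ φ) ⁻¹ᵁ U.1) :
    ((J.subschemeι ≫ φ).appLE U.1 (J.subschemeι ⁻¹ᵁ V.1) e').hom.Flat ↔
      ((Ideal.Quotient.mk (J.ideal V)).comp (φ.appLE U.1 V.1 e).hom).Flat := by
  rw [flat_mk_comp_iff (φ.appLE U.1 V.1 e).hom (J.subschemeι.app V.1).hom
    (J.subschemeι_app_surjective V) (J.ideal V) (J.ker_subschemeι_app V), ← CommRingCat.hom_comp,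
    Scheme.Hom.app_eq_appLE, Scheme.Hom.appLE_comp_appLE]

theorem flat_of_cover (φ : X ⟶ S) (J : X.IdealSheafData)
    (h : ∀ x : X, ∃ (U : S.affineOpens) (V : X.affineOpens) (e : V.1 ≤ φ ⁻¹ᵁ U.1),
      x ∈ V.1 ∧ ((Ideal.Quotient.mk (J.ideal V)).comp (φ.appLE U.1 V.1 e).hom).Flat) :
    Flat (J.subschemeι ≫ φ) := by
  choose U V e hxV hflat using h
  have hcov : iSup (fun x : J.subscheme => J.subschemeι ⁻¹ᵁ (V (J.subschemeι x)).1) = ⊤ :=
    eq_top_iff.2 fun z _ => Opens.mem_iSup.2 ⟨z, hxV _⟩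
  haveI : IsZariskiLocalAtSource @Flat.{u} := HasRingHomProperty.instIsZariskiLocalAtSource (P := @Flat.{u})
  refine (IsZariskiLocalAtSource.iff_of_iSup_eq_top (P := @Flat.{u}) _ hcov).2 fun z => ?_
  let x := J.subschemeι z
  let W := J.subschemeι ⁻¹ᵁ (V x).1
  have e' : W ≤ (J.subschemeι ≫ φ) ⁻¹ᵁ (U x).1 := fun y hy => e x hy
  haveI : IsAffine W.toScheme := (V x).2.preimage J.subschemeι
  haveI : IsAffine (U x).1.toScheme := (U x).2
  haveI : Flat ((J.subschemeι ≫ φ).resLE (U x).1 W e') := by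
    rw [HasRingHomProperty.iff_of_isAffine (P := @Flat), Scheme.Hom.appTop, Scheme.Hom.resLE_app_top,
      CommRingCat.hom_comp, RingHom.Flat.respectsIso.cancel_left_isIso, CommRingCat.hom_comp,
      RingHom.Flat.respectsIso.cancel_right_isIso]
    exact (flat_appLE_subscheme_iff φ J (U x) (V x) (e x) e').2 (hflat x)
  show Flat (W.ι ≫ J.subschemeι ≫ φ)
  rw [← Scheme.Hom.resLE_comp_ι (J.subschemeι ≫ φ) e']
  infer_instance

theorem core (φ : X ⟶ S) [Flat φ] [LocallyOfFinitePresentation φ] (J : X.IdealSheafData)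
    (hfib : ∀ s : S, BlowUp.IsEffCartierIdeal (J.comap (φ.fiberι s)))
    (hP : ∀ x : X, ∃ V₀ : X.affineOpens, x ∈ V₀.1 ∧ ∃ t : Γ(X, V₀.1), J.ideal V₀ = Ideal.span {t}) :
    BlowUp.IsEffCartierIdeal J ∧ Flat (J.subschemeι ≫ φ) := by
  have h : ∀ x : X, ∃ (U : S.affineOpens) (V : X.affineOpens) (e : V.1 ≤ φ ⁻¹ᵁ U.1),
      x ∈ V.1 ∧ (∃ t, t ∈ nonZeroDivisors Γ(X, V.1) ∧ J.ideal V = Ideal.span {t}) ∧
        ((Ideal.Quotient.mk (J.ideal V)).comp (φ.appLE U.1 V.1 e).hom).Flat := by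
    intro x
    obtain ⟨V₀, hx₀, t₀, ht₀⟩ := hP x
    obtain ⟨U, V, e, hxV, t, ht⟩ := exists_pair_of_principal φ J x V₀ hx₀ t₀ ht₀
    haveI : IsOpenImmersion U.2.fromSpec := IsAffineOpen.isOpenImmersion_fromSpec U.2
    haveI : IsOpenImmersion V.2.fromSpec := IsAffineOpen.isOpenImmersion_fromSpec V.2
    obtain ⟨h1, h2⟩ := core_local φ J hfib (φ.appLE U.1 V.1 e)
      (φ.flat_appLE U.2 V.2 e) (HasRingHomProperty.appLE @LocallyOfFinitePresentation _ ‹_› U V e)
      U.2.fromSpec V.2.fromSpec (hj_fromSpec φ U V e) t (by rw [comap_fromSpec, ht])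
    exact ⟨U, V, e, hxV, ⟨t, h1, ht⟩, by rw [ht]; exact h2⟩
  refine ⟨fun x => ?_, flat_of_cover φ J fun x => ?_⟩
  · obtain ⟨U, V, e, hxV, ⟨t, h1, ht⟩, -⟩ := h x
    exact ⟨V, hxV, t, h1, ht⟩
  · obtain ⟨U, V, e, hxV, -, h2⟩ := h x
    exact ⟨U, V, e, hxV, h2⟩

theorem main_locPrincipal (φ : X ⟶ S) [Flat φ] [LocallyOfFinitePresentation φ] (J : X.IdealSheafData)
    (hZ : Curv2.IsLocPrincipal J) (hfib : ∀ s : S, BlowUp.IsEffCartierIdeal (J.comap (φ.fiberι s))) :
    BlowUp.IsEffCartierIdeal J ∧ Flat (J.subschemeι ≫ φ) := by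
  refine core φ J hfib fun x => ?_
  by_cases hx : x ∈ J.support
  · exact hZ x hx
  · exact exists_principal_of_not_mem_support J x hx

theorem fg_of_fp {A B C : Type u} [CommRing A] [CommRing B] [CommRing C] (f : A →+* B) (π : B →+* C)
    (hπ : Function.Surjective π) (hf : f.FinitePresentation) (hg : (π.comp f).FinitePresentation) :
    (RingHom.ker π).FG := by
  letI := f.toAlgebra
  letI := (π.comp f).toAlgebra
  haveI : Algebra.FinitePresentation A B := hf
  haveI : Algebra.FinitePresentation A C := hg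
  exact Algebra.FinitePresentation.ker_fG_of_surjective
    ({ π with commutes' := fun _ => rfl } : B →ₐ[A] C) hπ

theorem map_away_eq {B R : Type u} [CommRing B] [CommRing R] [Algebra B R] (I : Ideal B) (g t : B)
    [IsLocalization.Away g R]
    (h : I.map (algebraMap B (Localization.Away g)) = Ideal.span {algebraMap B (Localization.Away g) t}) :
    I.map (algebraMap B R) = Ideal.span {algebraMap B R t} := by
  let e := IsLocalization.algEquiv (Submonoid.powers g) (Localization.Away g) R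
  have he : e.toAlgHom.toRingHom.comp (algebraMap B (Localization.Away g)) = algebraMap B R :=
    e.toAlgHom.comp_algebraMap
  have := congrArg (Ideal.map e.toAlgHom.toRingHom) h
  rwa [Ideal.map_map, he, Ideal.map_span, Set.image_singleton,
    show e.toAlgHom.toRingHom (algebraMap B (Localization.Away g) t) = algebraMap B R t from e.commutes t] at this

theorem main_flat (φ : X ⟶ S) [Flat φ] [LocallyOfFinitePresentation φ] (J : X.IdealSheafData)
    [Flat (J.subschemeι ≫ φ)] [LocallyOfFinitePresentation (J.subschemeι ≫ φ)]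
    (hfib : ∀ s : S, BlowUp.IsEffCartierIdeal (J.comap (φ.fiberι s))) :
    BlowUp.IsEffCartierIdeal J := by
  refine (core φ J hfib fun x => ?_).1
  obtain ⟨U, V, e, hxV, -, -⟩ := Groth.L22.Ideals.exists_affine_pair φ x (W := ⊤) trivial (W' := ⊤) trivial
  have e' : J.subschemeι ⁻¹ᵁ V.1 ≤ (J.subschemeι ≫ φ) ⁻¹ᵁ U.1 := fun y hy => e hy
  have hW : IsAffineOpen (J.subschemeι ⁻¹ᵁ V.1) := V.2.preimage J.subschemeι
  have hflat := (flat_appLE_subscheme_iff φ J U V e e').1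
    ((J.subschemeι ≫ φ).flat_appLE U.2 hW e')
  have hfg : (J.ideal V).FG := by
    rw [← J.ker_subschemeι_app V]
    refine fg_of_fp (φ.appLE U.1 V.1 e).hom (J.subschemeι.app V.1).hom (J.subschemeι_app_surjective V)
      (HasRingHomProperty.appLE @LocallyOfFinitePresentation _ ‹_› U V e) ?_
    rw [← CommRingCat.hom_comp, Scheme.Hom.app_eq_appLE, Scheme.Hom.appLE_comp_appLE]
    exact HasRingHomProperty.appLE @LocallyOfFinitePresentation _ ‹_› U ⟨_, hW⟩ e'
  haveI : IsOpenImmersion U.2.fromSpec := IsAffineOpen.isOpenImmersion_fromSpec U.2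
  haveI : IsOpenImmersion V.2.fromSpec := IsAffineOpen.isOpenImmersion_fromSpec V.2
  obtain ⟨t, -, g, hg, hgen⟩ := core_principal φ J hfib (φ.appLE U.1 V.1 e) U.2.fromSpec V.2.fromSpec
    (hj_fromSpec φ U V e) (J.ideal V) hfg hflat (comap_fromSpec J V) (V.2.primeIdealOf ⟨x, hxV⟩).asIdeal
  have hxg : x ∈ X.basicOpen g := by
    refine (X.mem_basicOpen g x hxV).2 ?_
    letI : Algebra Γ(X, V.1) (X.presheaf.stalk x) :=
      TopCat.Presheaf.algebra_section_stalk X.presheaf ⟨x, hxV⟩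
    haveI := V.2.isLocalization_stalk ⟨x, hxV⟩
    exact IsLocalization.map_units (X.presheaf.stalk x)
      (⟨g, hg⟩ : (V.2.primeIdealOf ⟨x, hxV⟩).asIdeal.primeCompl)
  let W : X.affineOpens := ⟨X.basicOpen g, V.2.basicOpen g⟩
  haveI := V.2.isLocalization_basicOpen g
  refine ⟨W, hxg, algebraMap Γ(X, V.1) Γ(X, X.basicOpen g) t, ?_⟩
  rw [← Scheme.IdealSheafData.map_ideal J (U := W) (V := V) (X.basicOpen_le g)]
  exact map_away_eq (J.ideal V) g t hgen

end Groth.L02.RelCartier
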