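import Groth.Agent.L02.RelCartier.CurveAlg
import Groth.Agent.L02.RelCartier.Main
import Mathlib.AlgebraicGeometry.Morphisms.QuasiFinite
import Mathlib.AlgebraicGeometry.Morphisms.Smooth
import Mathlib.RingTheory.RingHom.Etale

/-!
On a smooth curve over a field effective Cartier ideals are the ideals of quasi-finite closed subschemes.
-/

set_option autoImplicit false
set_option linter.style.haveILetI false

universe u

open CategoryTheory CategoryTheory.Limits AlgebraicGeometry TopologicalSpace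
open scoped nonZeroDivisors

namespace Groth.L02.RelCartier

section Alg

variable {K : Type u} [Field K] {C C' : Type u} [CommRing C] [CommRing C'] (g : MvPolynomial (Fin 1) K →+* C)
  (hg : g.Etale) (π : C →+* C') (hπ : Function.Surjective π)

include hg hπ

theorem chart_principal (I : Ideal C) (hI : RingHom.ker π = I)
    (hqf : (π.comp (g.comp MvPolynomial.C)).QuasiFinite) (q : Ideal C) [q.IsPrime] :
    ∃ h ∉ q, ∃ y ∈ I, ∀ (R : Type u) [CommRing R] [Algebra C R] [IsLocalization.Away h R],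
      algebraMap C R y ∈ R⁰ ∧ I.map (algebraMap C R) = Ideal.span {algebraMap C R y} := by
  algebraize [g, π.comp (g.comp MvPolynomial.C)]
  haveI : Algebra.Etale (MvPolynomial (Fin 1) K) C := hg
  haveI : Algebra.QuasiFinite K C' := hqf
  haveI : Module.Finite K C' := Module.Finite.of_quasiFinite
  haveI : IsArtinianRing C' := isArtinian_of_tower K inferInstance
  let e : C ⧸ RingHom.ker π ≃+* C' := RingHom.quotientKerEquivOfSurjective hπ
  haveI : IsArtinianRing (C ⧸ I) := by
    rw [← hI]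
    exact e.symm.isArtinianRing
  exact exists_principal_of_finite (K := K) I q

theorem chart_quasiFinite (t : C) (ht : t ∈ C⁰) (hI : RingHom.ker π = Ideal.span {t}) :
    (π.comp (g.comp MvPolynomial.C)).QuasiFinite := by
  algebraize [g, g.comp MvPolynomial.C, π.comp (g.comp MvPolynomial.C)]
  haveI : Algebra.Etale (MvPolynomial (Fin 1) K) C := hg
  haveI : IsScalarTower K (MvPolynomial (Fin 1) K) C := IsScalarTower.of_algebraMap_eq fun _ => rfl
  haveI : Algebra.FiniteType K C := Algebra.FiniteType.trans (S := MvPolynomial (Fin 1) K) inferInstance inferInstance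
  haveI : Algebra.FiniteType K C' := Algebra.FiniteType.of_surjective
    ({ π with commutes' := fun _ => rfl } : C →ₐ[K] C') hπ
  haveI := krullDimLE_zero_of_nzd (K := K) t ht
  let e : C ⧸ Ideal.span {t} ≃+* C' :=
    (Ideal.quotEquivOfEq hI.symm).trans (RingHom.quotientKerEquivOfSurjective hπ)
  haveI : Ring.KrullDimLE 0 C' := by
    rw [Ring.krullDimLE_iff, ← ringKrullDim_eq_of_ringEquiv e, ← Ring.krullDimLE_iff]
    infer_instance
  haveI : Module.Finite K C' := (Module.finite_iff_krullDimLE_zero K C').2 inferInstance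
  exact RingHom.quasiFinite_algebraMap.2 inferInstance

end Alg

variable {K : Type u} [Field K] {F : Scheme.{u}} (f : F ⟶ Spec (CommRingCat.of K))

theorem exists_chart [SmoothOfRelativeDimension 1 f] (x : F) (W : F.Opens) (hxW : x ∈ W) :
    ∃ (V : F.affineOpens) (g : MvPolynomial (Fin 1) K →+* Γ(F, V.1)), x ∈ V.1 ∧ V.1 ≤ W ∧ g.Etale ∧
      g.comp MvPolynomial.C =
        (f.appLE ⊤ V.1 le_top).hom.comp (Scheme.ΓSpecIso (CommRingCat.of K)).inv.hom := by
  obtain ⟨U, hU, V, hV, hx, e, h⟩ :=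
    SmoothOfRelativeDimension.exists_isStandardSmoothOfRelativeDimension (n := 1) (f := f) x
  obtain rfl : U = ⊤ := by
    ext y
    simp only [TopologicalSpace.Opens.coe_top, Set.mem_univ, iff_true]
    obtain rfl : y = f x := Subsingleton.elim (α := PrimeSpectrum K) _ _
    exact e hx
  have h' : ((f.appLE ⊤ V e).hom.comp (Scheme.ΓSpecIso (CommRingCat.of K)).inv.hom).IsStandardSmoothOfRelativeDimension 1 :=
    RingHom.isStandardSmoothOfRelativeDimension_respectsIso.2 _
      (Scheme.ΓSpecIso (CommRingCat.of K)).symm.commRingCatIsoToRingEquiv h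
  obtain ⟨g, hgC, hg⟩ := h'.exists_etale_mvPolynomial
  obtain ⟨a, haW, hxa⟩ := hV.exists_basicOpen_le ⟨x, hxW⟩ hx
  let res : Γ(F, V) →+* Γ(F, F.basicOpen a) := (F.presheaf.map (homOfLE (F.basicOpen_le a)).op).hom
  refine ⟨⟨F.basicOpen a, hV.basicOpen a⟩, res.comp g, hxa, haW, ?_, ?_⟩
  · haveI := hV.isLocalization_basicOpen a
    refine RingHom.Etale.stableUnderComposition g res hg ?_
    haveI : Algebra.Etale Γ(F, V) Γ(F, F.basicOpen a) := Algebra.Etale.of_isLocalizationAway a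
    exact RingHom.etale_algebraMap.2 inferInstance
  · rw [RingHom.comp_assoc, hgC, ← RingHom.comp_assoc]
    congr 1
    show (f.appLE ⊤ V e ≫ F.presheaf.map (homOfLE (F.basicOpen_le a)).op).hom = _
    rw [Scheme.Hom.appLE_map]

theorem appLE_subscheme_eq (J : F.IdealSheafData) (V : F.affineOpens)
    (g : MvPolynomial (Fin 1) K →+* Γ(F, V.1)) (e : V.1 ≤ f ⁻¹ᵁ ⊤)
    (e' : J.subschemeι ⁻¹ᵁ V.1 ≤ (J.subschemeι ≫ f) ⁻¹ᵁ ⊤)
    (hgC : g.comp MvPolynomial.C =
      (f.appLE ⊤ V.1 e).hom.comp (Scheme.ΓSpecIso (CommRingCat.of K)).inv.hom) :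
    ((J.subschemeι ≫ f).appLE ⊤ (J.subschemeι ⁻¹ᵁ V.1) e').hom.QuasiFinite ↔
      ((J.subschemeι.app V.1).hom.comp (g.comp MvPolynomial.C)).QuasiFinite := by
  rw [hgC, ← RingHom.comp_assoc, ← CommRingCat.hom_comp (f.appLE ⊤ V.1 e), Scheme.Hom.app_eq_appLE,
    Scheme.Hom.appLE_comp_appLE, RingHom.QuasiFinite.respectsIso.cancel_left_isIso]

theorem eff_of_lqf [SmoothOfRelativeDimension 1 f] (J : F.IdealSheafData)
    [LocallyQuasiFinite (J.subschemeι ≫ f)] : BlowUp.IsEffCartierIdeal J := by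
  intro x
  obtain ⟨V, g, hxV, -, hg, hgC⟩ := exists_chart f x ⊤ trivial
  have hqf := (appLE_subscheme_eq f J V g le_top le_top hgC).1
    (HasRingHomProperty.appLE @LocallyQuasiFinite _ ‹_› ⟨⊤, isAffineOpen_top _⟩
      ⟨_, V.2.preimage J.subschemeι⟩ le_top)
  obtain ⟨a, ha, y, -, hR⟩ := chart_principal g hg _ (J.subschemeι_app_surjective V) (J.ideal V)
    (J.ker_subschemeι_app V) hqf (V.2.primeIdealOf ⟨x, hxV⟩).asIdeal
  have hxa : x ∈ F.basicOpen a := by
    refine (F.mem_basicOpen a x hxV).2 ?_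
    letI : Algebra Γ(F, V.1) (F.presheaf.stalk x) :=
      TopCat.Presheaf.algebra_section_stalk F.presheaf ⟨x, hxV⟩
    haveI := V.2.isLocalization_stalk ⟨x, hxV⟩
    exact IsLocalization.map_units (F.presheaf.stalk x)
      (⟨a, ha⟩ : (V.2.primeIdealOf ⟨x, hxV⟩).asIdeal.primeCompl)
  haveI := V.2.isLocalization_basicOpen a
  obtain ⟨h1, h2⟩ := hR Γ(F, F.basicOpen a)
  refine ⟨⟨F.basicOpen a, V.2.basicOpen a⟩, hxa, _, h1, ?_⟩
  rw [← Scheme.IdealSheafData.map_ideal J (U := ⟨F.basicOpen a, V.2.basicOpen a⟩) (V := V) (F.basicOpen_le a)]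
  exact h2

theorem lqf_of_eff [SmoothOfRelativeDimension 1 f] (J : F.IdealSheafData)
    (hJ : BlowUp.IsEffCartierIdeal J) : LocallyQuasiFinite (J.subschemeι ≫ f) := by
  have h : ∀ x : F, ∃ V : F.affineOpens, x ∈ V.1 ∧
      ((J.subschemeι ≫ f).appLE ⊤ (J.subschemeι ⁻¹ᵁ V.1) le_top).hom.QuasiFinite := by
    intro x
    obtain ⟨U₁, hx₁, t₁, -, -, hU₁⟩ := Groth.L22.Ideals.exists_generator hJ x
    obtain ⟨V, g, hxV, hle, hg, hgC⟩ := exists_chart f x U₁.1 hx₁
    obtain ⟨hn, he⟩ := hU₁ V hle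
    exact ⟨V, hxV, (appLE_subscheme_eq f J V g le_top le_top hgC).2
      (chart_quasiFinite g hg _ (J.subschemeι_app_surjective V) _ hn (by rw [J.ker_subschemeι_app V, he]))⟩
  choose V hxV hV using h
  exact HasRingHomProperty.of_iSup_eq_top (P := @LocallyQuasiFinite)
    (fun z : J.subscheme => ⟨J.subschemeι ⁻¹ᵁ (V (J.subschemeι z)).1, (V _).2.preimage J.subschemeι⟩)
    (eq_top_iff.2 fun z _ => Opens.mem_iSup.2 ⟨z, hxV _⟩) fun z => hV _

end Groth.L02.RelCartier
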