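import Groth.Agent.L02.RelCartier.Descent
import Mathlib.RingTheory.RingHom.StandardSmooth
import Mathlib.RingTheory.RingHom.QuasiFinite
import Mathlib.RingTheory.Unramified.LocalRing
import Mathlib.RingTheory.Smooth.Flat
import Mathlib.RingTheory.Jacobson.Ring
import Mathlib.RingTheory.Jacobson.Artinian
import Mathlib.RingTheory.Filtration
import Mathlib.Algebra.MvPolynomial.Equiv
import Mathlib.RingTheory.Polynomial.Basic

/-!
Smooth curves over a field: an ideal is locally principal regular iff its quotient is finite.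
-/

set_option autoImplicit false
set_option linter.style.haveILetI false

universe u

open IsLocalRing
open scoped nonZeroDivisors

namespace Groth.L02.RelCartier

/-- The maximal ideals of an étale algebra over `K[X]` are locally generated by one regular element. -/
theorem exists_uniformizer {K C : Type u} [Field K] [CommRing C] [Algebra (MvPolynomial (Fin 1) K) C]
    [Algebra.Etale (MvPolynomial (Fin 1) K) C] (m : Ideal C) [m.IsMaximal] :
    ∃ π : Localization.AtPrime m, π ∈ (Localization.AtPrime m)⁰ ∧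
      maximalIdeal (Localization.AtPrime m) = Ideal.span {π} := by
  let P := MvPolynomial (Fin 1) K
  haveI : IsPrincipalIdealRing P := IsPrincipalIdealRing.of_surjective
    (MvPolynomial.uniqueAlgEquiv K (Fin 1)).symm.toRingHom (MvPolynomial.uniqueAlgEquiv K (Fin 1)).symm.surjective
  haveI : Algebra.FiniteType P C := inferInstance
  letI : Algebra K C := ((algebraMap P C).comp (algebraMap K P)).toAlgebra
  haveI : IsScalarTower K P C := IsScalarTower.of_algebraMap_eq fun _ => rfl
  haveI : Algebra.FiniteType K C := Algebra.FiniteType.trans (S := P) inferInstance inferInstance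
  letI : Field (C ⧸ m) := Ideal.Quotient.field m
  haveI : Algebra.FiniteType K (C ⧸ m) :=
    Algebra.FiniteType.of_surjective (Ideal.Quotient.mkₐ K m) Ideal.Quotient.mk_surjective
  haveI : Module.Finite K (C ⧸ m) := finite_of_finite_type_of_isJacobsonRing K (C ⧸ m)
  haveI : Algebra.IsIntegral P (C ⧸ m) := ⟨fun x => IsIntegral.tower_top (Algebra.IsIntegral.isIntegral (R := K) x)⟩
  let p := m.comap (algebraMap P C)
  haveI hp : p.IsMaximal := by
    haveI : (⊥ : Ideal (C ⧸ m)).IsMaximal := Ideal.bot_isMaximal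
    have h := Ideal.isMaximal_comap_of_isIntegral_of_isMaximal (R := P) (⊥ : Ideal (C ⧸ m))
    have e : (⊥ : Ideal (C ⧸ m)).comap (algebraMap P (C ⧸ m)) = p := by
      ext a
      rw [Ideal.mem_comap, Ideal.mem_bot, IsScalarTower.algebraMap_apply P C (C ⧸ m), Ideal.Quotient.algebraMap_eq,
        Ideal.Quotient.eq_zero_iff_mem]
      rfl
    exact e ▸ h
  obtain ⟨π₀, hπ₀⟩ := (IsPrincipalIdealRing.principal p).principal
  have hπne : π₀ ≠ 0 := by
    intro h0
    have hbot : p = ⊥ := by rw [hπ₀, h0]; simp
    rw [hbot] at hp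
    have hX : (MvPolynomial.X 0 : P) ≠ 0 := MvPolynomial.X_ne_zero 0
    have hu : IsUnit (MvPolynomial.X 0 : P) := by
      by_contra hu
      obtain ⟨M, hM, hXM⟩ := exists_max_ideal_of_mem_nonunits hu
      rw [← hp.eq_of_le hM.ne_top bot_le] at hXM
      exact hX (Ideal.mem_bot.1 hXM)
    have := hu.map MvPolynomial.constantCoeff
    simp at this
  haveI : Module.Flat P (Localization.AtPrime m) := Module.Flat.trans P C _
  refine ⟨algebraMap P (Localization.AtPrime m) π₀, ?_, ?_⟩
  · rw [mem_nonZeroDivisors_iff_right]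
    intro z hz
    refine (Groth.L07.FibreRegular.isSMulRegular_of_flat (N := Localization.AtPrime m)
      (IsRegular.of_ne_zero hπne).left) ?_
    show π₀ • z = π₀ • 0
    rw [smul_zero, Algebra.smul_def, mul_comm]
    exact hz
  · letI := Localization.AtPrime.algebraOfLiesOver p m
    haveI : Algebra.IsUnramifiedAt P m := Algebra.FormallyUnramified.comp P C _
    have := ((Algebra.isUnramifiedAt_iff_map_eq P p m).1 inferInstance).2
    rw [← this, hπ₀, Ideal.submodule_span_eq, Ideal.map_span, Set.image_singleton]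

/-- A local Noetherian ring whose maximal ideal is generated by a regular element. -/
theorem exists_span_pow {L : Type u} [CommRing L] [IsLocalRing L] [IsNoetherianRing L] (π : L)
    (hm : maximalIdeal L = Ideal.span {π}) (I : Ideal L) (hI : I ≠ ⊥) :
    ∃ n : ℕ, I = Ideal.span {π ^ n} := by
  have hx : ∀ x : L, x ≠ 0 → ∃ (n : ℕ) (u : L), IsUnit u ∧ x = u * π ^ n := by
    intro x hx
    by_contra hcon
    push Not at hcon
    refine hx ?_
    have hall : ∀ n, x ∈ maximalIdeal L ^ n := by
      intro n
      rw [hm, Ideal.span_singleton_pow, Ideal.mem_span_singleton']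
      induction n with
      | zero => exact ⟨x, by simp⟩
      | succ k ih =>
        obtain ⟨a, ha⟩ := ih
        have : ¬ IsUnit a := fun hu => hcon k a hu ha.symm
        rw [← mem_nonunits_iff, ← IsLocalRing.mem_maximalIdeal, hm, Ideal.mem_span_singleton'] at this
        obtain ⟨b, hb⟩ := this
        exact ⟨b, by rw [← ha, ← hb]; ring⟩
    have : x ∈ ⨅ n : ℕ, maximalIdeal L ^ n := Submodule.mem_iInf _ |>.2 hall
    rwa [Ideal.iInf_pow_eq_bot_of_isLocalRing _ (maximalIdeal.isMaximal L).ne_top, Ideal.mem_bot] at this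
  classical
  have hex : ∃ n, π ^ n ∈ I := by
    obtain ⟨x, hxI, hx0⟩ := Submodule.exists_mem_ne_zero_of_ne_bot hI
    obtain ⟨n, u, hu, rfl⟩ := hx x hx0
    exact ⟨n, (Ideal.unit_mul_mem_iff_mem I hu).1 hxI⟩
  refine ⟨Nat.find hex, le_antisymm (fun x hxI => ?_) ((Ideal.span_singleton_le_iff_mem _).2 (Nat.find_spec hex))⟩
  rcases eq_or_ne x 0 with rfl | hx0
  · exact zero_mem _
  obtain ⟨k, u, hu, rfl⟩ := hx x hx0
  have hk : Nat.find hex ≤ k := Nat.find_le ((Ideal.unit_mul_mem_iff_mem I hu).1 hxI)
  obtain ⟨d, rfl⟩ := Nat.exists_eq_add_of_le hk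
  exact Ideal.mem_span_singleton'.2 ⟨u * π ^ d, by rw [pow_add]; ring⟩

/-- A finite quotient of an algebra étale over `K[X]` is locally cut out by one regular element. -/
theorem exists_principal_of_finite {K C : Type u} [Field K] [CommRing C] [Algebra (MvPolynomial (Fin 1) K) C]
    [Algebra.Etale (MvPolynomial (Fin 1) K) C] (I : Ideal C) [IsArtinianRing (C ⧸ I)] (q : Ideal C) [q.IsPrime] :
    ∃ h ∉ q, ∃ y ∈ I, ∀ (R : Type u) [CommRing R] [Algebra C R] [IsLocalization.Away h R],
      algebraMap C R y ∈ R⁰ ∧ I.map (algebraMap C R) = Ideal.span {algebraMap C R y} := by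
  haveI : IsNoetherianRing C := Algebra.FiniteType.isNoetherianRing (MvPolynomial (Fin 1) K) C
  by_cases hq : I ≤ q
  swap
  · obtain ⟨h, hhI, hhq⟩ := SetLike.not_le_iff_exists.1 hq
    refine ⟨h, hhq, h, hhI, fun R _ _ _ => ?_⟩
    have hu : IsUnit (algebraMap C R h) := IsLocalization.Away.algebraMap_isUnit h
    exact ⟨hu.mem_nonZeroDivisors,
      (Ideal.eq_top_of_isUnit_mem _ (Ideal.mem_map_of_mem _ hhI) hu).trans
        (Ideal.span_singleton_eq_top.2 hu).symm⟩
  haveI : q.IsMaximal := by
    haveI : (q.map (Ideal.Quotient.mk I)).IsPrime :=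
      Ideal.map_isPrime_of_surjective Ideal.Quotient.mk_surjective (by rwa [Ideal.mk_ker])
    haveI : (q.map (Ideal.Quotient.mk I)).IsMaximal := IsArtinianRing.isMaximal_of_isPrime _
    have := Ideal.comap_isMaximal_of_surjective _ Ideal.Quotient.mk_surjective
      (K := q.map (Ideal.Quotient.mk I))
    rwa [Ideal.comap_map_of_surjective _ Ideal.Quotient.mk_surjective, ← RingHom.ker_eq_comap_bot,
      Ideal.mk_ker, sup_eq_left.2 hq] at this
  obtain ⟨π, hπ, hm⟩ := exists_uniformizer (K := K) q
  haveI : IsNoetherianRing (Localization.AtPrime q) := inferInstance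
  have hne : I.map (algebraMap C (Localization.AtPrime q)) ≠ ⊥ := by
    intro hbot
    let φ : C ⧸ I →+* Localization.AtPrime q := Ideal.Quotient.lift I (algebraMap C _) fun a ha =>
      Ideal.mem_bot.1 (hbot ▸ Ideal.mem_map_of_mem _ ha)
    obtain ⟨⟨a, s⟩, has⟩ := IsLocalization.surj q.primeCompl π
    have ha : a ∈ q := by
      rw [← IsLocalization.AtPrime.to_map_mem_maximal_iff (Localization.AtPrime q) q]
      rw [← has, hm]
      exact Ideal.mul_mem_right _ _ (Ideal.mem_span_singleton_self π)
    obtain ⟨n, c, hc⟩ := IsArtinian.exists_pow_succ_smul_dvd (R := C ⧸ I) (M := C ⧸ I) (Ideal.Quotient.mk I a) 1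
    obtain ⟨c, rfl⟩ := Ideal.Quotient.mk_surjective c
    have h1 := congrArg φ hc
    simp only [smul_eq_mul, mul_one, map_mul, map_pow] at h1
    simp only [φ, Ideal.Quotient.lift_mk] at h1
    have hu : IsUnit (1 - algebraMap C (Localization.AtPrime q) a * algebraMap C _ c) := by
      refine IsLocalRing.isUnit_one_sub_self_of_mem_nonunits _ ?_
      rw [← IsLocalRing.mem_maximalIdeal]
      exact Ideal.mul_mem_right _ _ ((IsLocalization.AtPrime.to_map_mem_maximal_iff _ q a).2 ha)
    have hanz : algebraMap C (Localization.AtPrime q) a ^ n ∈ (Localization.AtPrime q)⁰ := by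
      refine pow_mem ?_ n
      rw [← has]
      exact mul_mem hπ (IsLocalization.map_units (Localization.AtPrime q) s).mem_nonZeroDivisors
    refine hu.ne_zero (hanz.1 _ ?_)
    rw [mul_sub, mul_one, ← mul_assoc, ← pow_succ, h1, sub_self]
  obtain ⟨n, hn⟩ := exists_span_pow π hm _ hne
  haveI : Module.Flat C (Localization.AtPrime q) := IsLocalization.flat _ q.primeCompl
  obtain ⟨h, hh, y, hy, hR⟩ := exists_descend_principal I (maximalIdeal (Localization.AtPrime q)) _
    (pow_mem hπ n) hn
  refine ⟨h, fun hc => hh ?_, y, hy, hR⟩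
  rw [Ideal.mem_comap, IsLocalization.AtPrime.to_map_mem_maximal_iff (Localization.AtPrime q) q]
  exact hc

/-- A regular element of an algebra étale over `K[X]` cuts out a zero-dimensional quotient. -/
theorem krullDimLE_zero_of_nzd {K C : Type u} [Field K] [CommRing C] [Algebra (MvPolynomial (Fin 1) K) C]
    [Algebra.Etale (MvPolynomial (Fin 1) K) C] (t : C) (ht : t ∈ C⁰) :
    Ring.KrullDimLE 0 (C ⧸ Ideal.span {t}) := by
  haveI : IsNoetherianRing C := Algebra.FiniteType.isNoetherianRing (MvPolynomial (Fin 1) K) C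
  refine Ring.KrullDimLE.mk₀ fun P hP => ?_
  let q := P.comap (Ideal.Quotient.mk (Ideal.span {t}))
  haveI : q.IsPrime := Ideal.comap_isPrime _ _
  suffices hq : q.IsMaximal by
    have h := Ideal.map_eq_top_or_isMaximal_of_surjective (Ideal.Quotient.mk (Ideal.span {t}))
      Ideal.Quotient.mk_surjective hq
    rw [Ideal.map_comap_of_surjective _ Ideal.Quotient.mk_surjective] at h
    exact h.resolve_left hP.ne_top
  have htq : t ∈ q := by
    show Ideal.Quotient.mk (Ideal.span {t}) t ∈ P
    rw [Ideal.Quotient.eq_zero_iff_mem.2 (Ideal.mem_span_singleton_self t)]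
    exact zero_mem _
  obtain ⟨m, hm, hqm⟩ := Ideal.exists_le_maximal q (Ideal.IsPrime.ne_top inferInstance)
  obtain ⟨π, -, hπ⟩ := exists_uniformizer (K := K) m
  let L := Localization.AtPrime m
  have hd : Disjoint (m.primeCompl : Set C) q := Set.disjoint_left.2 fun x hx hxq => hx (hqm hxq)
  haveI hQ : (q.map (algebraMap C L)).IsPrime :=
    IsLocalization.isPrime_of_isPrime_disjoint m.primeCompl L q inferInstance hd
  have hne : q.map (algebraMap C L) ≠ ⊥ := by
    intro hbot
    have htL : algebraMap C L t ∈ L⁰ :=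
      IsLocalization.map_nonZeroDivisors_le m.primeCompl L (Submonoid.mem_map_of_mem _ ht)
    exact nonZeroDivisors.ne_zero htL (Ideal.mem_bot.1 (hbot ▸ Ideal.mem_map_of_mem _ htq))
  obtain ⟨n, hn⟩ := exists_span_pow π hπ _ hne
  have hπQ : π ∈ q.map (algebraMap C L) := hQ.mem_of_pow_mem n (hn.symm ▸ Ideal.mem_span_singleton_self _)
  have hmax : q.map (algebraMap C L) = maximalIdeal L :=
    le_antisymm (IsLocalRing.le_maximalIdeal hQ.ne_top) (hπ ▸ (Ideal.span_singleton_le_iff_mem _).2 hπQ)
  have := congrArg (Ideal.comap (algebraMap C L)) hmax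
  rw [← Ideal.under_def, IsLocalization.under_map_of_isPrime_disjoint m.primeCompl L inferInstance hd] at this
  rw [this.trans (IsLocalization.AtPrime.under_maximalIdeal L m)]
  exact hm

end Groth.L02.RelCartier
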