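import Groth.Agent.L02.RelCartier.Curve
import Groth.Agent.L23.EffCartierBC
import Groth.Agent.L19.Approx.Closed
import Groth.Prelude.Def_Mor2

/-!
Relative effective Cartier divisors on smooth relative curves.
-/

set_option autoImplicit false
set_option linter.style.haveILetI false

universe u

open CategoryTheory CategoryTheory.Limits AlgebraicGeometry TopologicalSpace

namespace Groth.L02.RelCartier

variable {X S : Scheme.{u}}

theorem smoothOfRelativeDimension_fiber (n : ℕ) (φ : X ⟶ S) [SmoothOfRelativeDimension n φ] (s : S) :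
    SmoothOfRelativeDimension n (φ.fiberToSpecResidueField s) :=
  (smoothOfRelativeDimension_isStableUnderBaseChange (n := n)).of_isPullback
    (IsPullback.of_hasPullback φ (S.fromSpecResidueField s)) inferInstance

/-- The fibre of a closed subscheme as a closed subscheme of the fibre. -/
theorem isPullback_comap_subscheme (φ : X ⟶ S) (I : X.IdealSheafData) (s : S) :
    IsPullback ((I.comapIso (φ.fiberι s)).hom ≫ pullback.snd _ _)
      ((I.comap (φ.fiberι s)).subschemeι ≫ φ.fiberToSpecResidueField s)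
      (I.subschemeι ≫ φ) (S.fromSpecResidueField s) := by
  have h0 : IsPullback (pullback.snd (φ.fiberι s) I.subschemeι)
      (pullback.fst (φ.fiberι s) I.subschemeι ≫ φ.fiberToSpecResidueField s)
      (I.subschemeι ≫ φ) (S.fromSpecResidueField s) :=
    (IsPullback.of_hasPullback (φ.fiberι s) I.subschemeι).flip.paste_vert
      (IsPullback.of_hasPullback φ (S.fromSpecResidueField s))
  refine h0.of_iso (I.comapIso (φ.fiberι s)).symm (Iso.refl _) (Iso.refl _) (Iso.refl _) ?_ ?_ ?_ ?_
  · simp only [Iso.symm_hom, Iso.inv_hom_id_assoc, Iso.refl_hom, Category.comp_id]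
  · rw [Iso.refl_hom, Category.comp_id, Iso.symm_hom, ← Category.assoc]
    erw [Scheme.IdealSheafData.comapIso_inv_subschemeι]
  · simp
  · simp

theorem eff_of_lqf_rel (φ : X ⟶ S) [SmoothOfRelativeDimension 1 φ] (I : X.IdealSheafData)
    [LocallyQuasiFinite (I.subschemeι ≫ φ)] [Flat (I.subschemeι ≫ φ)]
    [LocallyOfFinitePresentation (I.subschemeι ≫ φ)] : BlowUp.IsEffCartierIdeal I := by
  haveI : Smooth φ := SmoothOfRelativeDimension.smooth 1 φ
  refine main_flat φ I fun s => ?_
  haveI := smoothOfRelativeDimension_fiber 1 φ s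
  haveI : LocallyQuasiFinite ((I.comap (φ.fiberι s)).subschemeι ≫ φ.fiberToSpecResidueField s) :=
    MorphismProperty.of_isPullback (isPullback_comap_subscheme φ I s) inferInstance
  exact eff_of_lqf (K := S.residueField s) (φ.fiberToSpecResidueField s) _

theorem lqf_of_eff_rel (φ : X ⟶ S) [SmoothOfRelativeDimension 1 φ] (I : X.IdealSheafData)
    (hI : BlowUp.IsEffCartierIdeal I) [Flat (I.subschemeι ≫ φ)] :
    LocallyQuasiFinite (I.subschemeι ≫ φ) := by
  refine LocallyQuasiFinite.of_fiberToSpecResidueField _ fun s => ?_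
  haveI := smoothOfRelativeDimension_fiber 1 φ s
  have heff := Groth.L23.EffCart.isEffCartier_comap_pullback
    (IsPullback.of_hasPullback φ (S.fromSpecResidueField s)) hI
  haveI := lqf_of_eff (K := S.residueField s) (φ.fiberToSpecResidueField s) (I.comap (φ.fiberι s)) heff
  let h := isPullback_comap_subscheme φ I s
  show LocallyQuasiFinite (pullback.snd (I.subschemeι ≫ φ) (S.fromSpecResidueField s))
  rw [← h.isoPullback_inv_snd]
  infer_instance

theorem lfp_of_eff_rel (φ : X ⟶ S) [LocallyOfFinitePresentation φ] (I : X.IdealSheafData)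
    (hI : BlowUp.IsEffCartierIdeal I) : LocallyOfFinitePresentation (I.subschemeι ≫ φ) := by
  haveI : LocallyOfFinitePresentation I.subschemeι := by
    choose U hxU f _ hf using hI
    exact Groth.L19.Approx.lfp_subschemeι
      (Groth.L19.Approx.fgOn_of_le_iSup I ⊤ U (fun x _ => Opens.mem_iSup.2 ⟨x, hxU x⟩)
        fun x => by rw [hf x]; exact ⟨{f x}, by simp⟩)
  infer_instance

theorem main_curve (φ : X ⟶ S) [SmoothOfRelativeDimension 1 φ] (I : X.IdealSheafData) :
    ((BlowUp.IsEffCartierIdeal I ∧ Flat (I.subschemeι ≫ φ)) ↔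
      (LocallyQuasiFinite (I.subschemeι ≫ φ) ∧ Flat (I.subschemeι ≫ φ) ∧
        LocallyOfFinitePresentation (I.subschemeι ≫ φ))) ∧
    (Mor2.IsFinLocFree (I.subschemeι ≫ φ) → BlowUp.IsEffCartierIdeal I ∧ Flat (I.subschemeι ≫ φ)) := by
  haveI : Smooth φ := SmoothOfRelativeDimension.smooth 1 φ
  refine ⟨⟨fun ⟨h1, h2⟩ => ⟨lqf_of_eff_rel φ I h1, h2, lfp_of_eff_rel φ I h1⟩,
    fun ⟨h1, h2, h3⟩ => ⟨eff_of_lqf_rel φ I, h2⟩⟩, fun ⟨h1, h2, h3⟩ => ⟨eff_of_lqf_rel φ I, h2⟩⟩

theorem ker_section {X Y : Scheme.{u}} (f : X ⟶ Y) [IsSeparated f] [SmoothOfRelativeDimension 1 f]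
    (σ : Y ⟶ X) (hσ : σ ≫ f = 𝟙 Y) : BlowUp.IsEffCartierIdeal σ.ker ∧ Flat (σ.ker.subschemeι ≫ f) := by
  haveI : IsClosedImmersion (σ ≫ f) := by rw [hσ]; infer_instance
  haveI : IsClosedImmersion σ := IsClosedImmersion.of_comp σ f
  have e : σ.ker.subschemeι ≫ f = inv σ.toImage := by
    refine IsIso.eq_inv_of_hom_inv_id ?_
    rw [← Category.assoc]
    exact (congrArg (· ≫ f) σ.toImage_imageι).trans hσ
  haveI : IsIso (σ.ker.subschemeι ≫ f) := by rw [e]; infer_instance
  exact ⟨eff_of_lqf_rel f σ.ker, inferInstance⟩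

end Groth.L02.RelCartier
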