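import Groth.Agent.L02.RelCartier.CurveRel
import Groth.Agent.L11.SmRegular.Basic
import Groth.Agent.L22.Cyc.FiniteDeg
import Mathlib.RingTheory.OrderOfVanishing.Basic

/-!
The degree of a sum of finite locally free effective Cartier divisors.
-/

set_option autoImplicit false
set_option linter.style.haveILetI false

universe u

open CategoryTheory CategoryTheory.Limits AlgebraicGeometry TopologicalSpace
open scoped nonZeroDivisors

namespace Groth.L02.RelCartier

variable {X : Scheme.{u}}

/-- The stalk of an ideal sheaf. -/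
noncomputable def stI (I : X.IdealSheafData) (x : X) : Ideal (X.presheaf.stalk x) :=
  ((I.comap (X.fromSpecStalk x)).ideal ⟨⊤, isAffineOpen_top _⟩).map
    (Scheme.ΓSpecIso (X.presheaf.stalk x)).hom.hom

theorem stI_eq (I : X.IdealSheafData) (U : X.affineOpens) {x : X} (hx : x ∈ U.1) :
    stI I x = (I.ideal U).map (X.presheaf.germ U.1 x hx).hom := by
  have e : (⊤ : (Spec (X.presheaf.stalk x)).Opens) ≤ X.fromSpecStalk x ⁻¹ᵁ U.1 := fun z _ => by
    have hz : z ⤳ IsLocalRing.closedPoint (X.presheaf.stalk x) := IsLocalRing.specializes_closedPoint z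
    exact (hz.map (X.fromSpecStalk x).continuous).mem_open U.1.2 (by rw [Scheme.fromSpecStalk_closedPoint]; exact hx)
  have h : (X.fromSpecStalk x).appLE U.1 ⊤ e = X.presheaf.germ U.1 x hx ≫ (Scheme.ΓSpecIso _).inv := by
    rw [Scheme.Hom.appLE, Scheme.fromSpecStalk_app hx, Category.assoc, Category.assoc, ← Functor.map_comp]
    congr 1
  rw [stI, Groth.L22.Ideals.comap_ideal (X.fromSpecStalk x) I U ⟨⊤, isAffineOpen_top _⟩ e,
    h, Ideal.map_map, ← CommRingCat.hom_comp, Category.assoc, Iso.inv_hom_id, Category.comp_id]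

theorem stI_mul (I J : X.IdealSheafData) (x : X) : stI (I * J) x = stI I x * stI J x := by
  obtain ⟨U, hU, hxU, -⟩ := exists_isAffineOpen_mem_and_subset (x := x) (U := (⊤ : X.Opens)) trivial
  rw [stI_eq _ ⟨U, hU⟩ hxU, stI_eq _ ⟨U, hU⟩ hxU, stI_eq _ ⟨U, hU⟩ hxU,
    Scheme.IdealSheafData.ideal_mul, Pi.mul_apply, Ideal.map_mul]

theorem stI_eq_top {I : X.IdealSheafData} {x : X} (hx : x ∉ I.support) : stI I x = ⊤ := by
  obtain ⟨U, hU, hxU, -⟩ := exists_isAffineOpen_mem_and_subset (x := x) (U := (⊤ : X.Opens)) trivial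
  rw [Scheme.IdealSheafData.mem_support_iff_of_mem (U := ⟨U, hU⟩) hxU, Scheme.mem_zeroLocus_iff] at hx
  push Not at hx
  obtain ⟨f, hf, hxf⟩ := hx
  rw [stI_eq _ ⟨U, hU⟩ hxU]
  exact Ideal.eq_top_of_isUnit_mem _ (Ideal.mem_map_of_mem _ hf) ((X.mem_basicOpen f x hxU).1 hxf)

theorem stI_principal {I : X.IdealSheafData} (hI : BlowUp.IsEffCartierIdeal I) (x : X) :
    ∃ t ∈ (X.presheaf.stalk x)⁰, stI I x = Ideal.span {t} := by
  obtain ⟨W, hxW, a, ha, hWI⟩ := hI x
  letI := X.presheaf.algebra_section_stalk ⟨x, hxW⟩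
  haveI := W.2.isLocalization_stalk ⟨x, hxW⟩
  exact ⟨_, IsLocalization.map_nonZeroDivisors_le (W.2.primeIdealOf ⟨x, hxW⟩).asIdeal.primeCompl
      (X.presheaf.stalk x) ⟨a, ha, rfl⟩, by rw [stI_eq I W hxW, hWI, Ideal.map_span, Set.image_singleton]; rfl⟩

/-- The local multiplicity of an ideal sheaf. -/
noncomputable def lenI (I : X.IdealSheafData) (x : X) : ℕ∞ :=
  Module.length (X.presheaf.stalk x) (X.presheaf.stalk x ⧸ stI I x)

theorem lenI_eq_zero {I : X.IdealSheafData} {x : X} (hx : x ∉ I.support) : lenI I x = 0 := by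
  rw [lenI, stI_eq_top hx]
  exact Module.length_eq_zero

theorem lenI_mul {I J : X.IdealSheafData} (hI : BlowUp.IsEffCartierIdeal I) (hJ : BlowUp.IsEffCartierIdeal J)
    (x : X) : lenI (I * J) x = lenI I x + lenI J x := by
  obtain ⟨a, ha, hae⟩ := stI_principal hI x
  obtain ⟨b, hb, hbe⟩ := stI_principal hJ x
  rw [lenI, lenI, lenI, stI_mul, hae, hbe, Ideal.span_singleton_mul_span_singleton]
  exact Ring.ord_mul (X.presheaf.stalk x) hb

theorem length_stalk_subscheme (I : X.IdealSheafData) (w : I.subscheme) :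
    Module.length (I.subscheme.presheaf.stalk w) (I.subscheme.presheaf.stalk w) =
      lenI I (I.subschemeι w) := by
  obtain ⟨U, hU, hxU, -⟩ := exists_isAffineOpen_mem_and_subset (x := I.subschemeι w) (U := (⊤ : X.Opens)) trivial
  obtain ⟨hs, hk⟩ := Groth.L11.SmRegular.stalkMap_subschemeι I w ⟨U, hU⟩ hxU
  rw [lenI, stI_eq I ⟨U, hU⟩ hxU, ← hk,
    ← Groth.L22.Cyc.length_self_of_ringEquiv (RingHom.quotientKerEquivOfSurjective hs)]
  exact (Module.length_eq_of_surjective (S := X.presheaf.stalk (I.subschemeι w)) Ideal.Quotient.mk_surjective).symm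

theorem finite_support_lenI {k : Type u} [Field k] (g : X ⟶ Spec (CommRingCat.of k)) (I : X.IdealSheafData)
    [IsFinite (I.subschemeι ≫ g)] : (I.support : Set X).Finite := by
  rw [← I.range_subschemeι]
  let s : Spec (CommRingCat.of k) := default
  have h : ((I.subschemeι ≫ g) ⁻¹' {s}).Finite := (I.subschemeι ≫ g).finite_preimage (Set.finite_singleton s)
  have : Finite I.subscheme := Set.finite_univ_iff.1 (h.subset fun a _ => Subsingleton.elim (α := PrimeSpectrum k) _ _)
  exact Set.finite_range _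

theorem lenI_ne_top {k : Type u} [Field k] (g : X ⟶ Spec (CommRingCat.of k)) (I : X.IdealSheafData)
    [IsFinite (I.subschemeι ≫ g)] (x : X) : lenI I x ≠ ⊤ := by
  by_cases hx : x ∈ (I.support : Set X)
  swap
  · rw [lenI_eq_zero hx]; exact ENat.zero_ne_top
  rw [← I.range_subschemeι] at hx
  obtain ⟨w, rfl⟩ := hx
  rw [← length_stalk_subscheme, Module.length_ne_top_iff]
  haveI : IsAffine I.subscheme := isAffine_of_isAffineHom (I.subschemeι ≫ g)
  obtain ⟨φ, hφ⟩ := Spec.map_surjective (I.subscheme.isoSpec.inv ≫ I.subschemeι ≫ g)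
  haveI : IsFinite (Spec.map φ) := hφ ▸ inferInstance
  letI : Algebra k Γ(I.subscheme, ⊤) := φ.hom.toAlgebra
  haveI : Module.Finite k Γ(I.subscheme, ⊤) := (IsFinite.SpecMap_iff φ).1 (inferInstanceAs (IsFinite (Spec.map φ)))
  haveI : IsArtinianRing Γ(I.subscheme, ⊤) := IsArtinianRing.of_finite k _
  letI := I.subscheme.presheaf.algebra_section_stalk (U := (⊤ : I.subscheme.Opens)) ⟨w, trivial⟩
  haveI := (isAffineOpen_top I.subscheme).isLocalization_stalk ⟨w, trivial⟩
  haveI : IsArtinianRing (I.subscheme.presheaf.stalk w) :=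
    (IsArtinianRing.localization_surjective
      ((isAffineOpen_top I.subscheme).primeIdealOf ⟨w, trivial⟩).asIdeal.primeCompl _).isArtinianRing
  exact (isArtinianRing_iff_isFiniteLength _).1 inferInstance

theorem finrank_eq_sum_amb {k : Type u} [Field k] (g : X ⟶ Spec (CommRingCat.of k)) (I : X.IdealSheafData)
    [IsFinite (I.subschemeι ≫ g)] (s : Spec (CommRingCat.of k)) :
    (I.subschemeι ≫ g).finrank s = ∑ᶠ x : X, g.residueDegree x * (lenI I x).toNat := by
  have hsupp : Function.support (fun x : X => g.residueDegree x * (lenI I x).toNat) ⊆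
      Set.range I.subschemeι := by
    intro x hx
    rw [I.range_subschemeι]
    by_contra h
    exact hx (by simp only [lenI_eq_zero h, ENat.toNat_zero, mul_zero])
  rw [← finsum_mem_univ (fun x : X => g.residueDegree x * (lenI I x).toNat),
    ← finsum_mem_inter_support_eq _ (Set.range I.subschemeι) Set.univ
      (by rw [Set.univ_inter, Set.inter_eq_right.2 hsupp]),
    finsum_mem_range I.subschemeι.isClosedEmbedding.injective,
    Groth.L22.Cyc.finrank_eq_sum_field k (I.subschemeι ≫ g) s]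
  refine finsum_congr fun w => ?_
  rw [Groth.L22.Cyc.residueDegree_comp, length_stalk_subscheme,
    Groth.L22.Cyc.residueDegree_eq_one I.subschemeι w (Groth.L22.FibreDim.residueFieldMap_bijective I.subschemeι w), mul_one]

theorem finrank_mul_field {k : Type u} [Field k] (g : X ⟶ Spec (CommRingCat.of k)) (I J : X.IdealSheafData)
    (hI : BlowUp.IsEffCartierIdeal I) (hJ : BlowUp.IsEffCartierIdeal J)
    [IsFinite (I.subschemeι ≫ g)] [IsFinite (J.subschemeι ≫ g)] [IsFinite ((I * J).subschemeι ≫ g)]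
    (s : Spec (CommRingCat.of k)) :
    ((I * J).subschemeι ≫ g).finrank s = (I.subschemeι ≫ g).finrank s + (J.subschemeι ≫ g).finrank s := by
  have hfin : ∀ (K : X.IdealSheafData) [IsFinite (K.subschemeι ≫ g)],
      (Function.support fun x : X => g.residueDegree x * (lenI K x).toNat).Finite := fun K _ =>
    (finite_support_lenI g K).subset fun x hx => by
      by_contra h
      exact hx (by simp only [lenI_eq_zero h, ENat.toNat_zero, mul_zero])
  rw [finrank_eq_sum_amb g (I * J) s, finrank_eq_sum_amb g I s, finrank_eq_sum_amb g J s,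
    ← finsum_add_distrib (hfin I) (hfin J)]
  refine finsum_congr fun x => ?_
  rw [lenI_mul hI hJ, ENat.toNat_add (lenI_ne_top g I x) (lenI_ne_top g J x), mul_add]

theorem finrank_mul {S : Scheme.{u}} (φ : X ⟶ S) (I J : X.IdealSheafData)
    (hI : BlowUp.IsEffCartierIdeal I) (hJ : BlowUp.IsEffCartierIdeal J)
    [Flat (I.subschemeι ≫ φ)] [Flat (J.subschemeι ≫ φ)] [Flat ((I * J).subschemeι ≫ φ)]
    [IsFinite (I.subschemeι ≫ φ)] [IsFinite (J.subschemeι ≫ φ)] [IsFinite ((I * J).subschemeι ≫ φ)]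
    (s : S) : ((I * J).subschemeι ≫ φ).finrank s = (I.subschemeι ≫ φ).finrank s + (J.subschemeι ≫ φ).finrank s := by
  let t : Spec (S.residueField s) := default
  have key : ∀ (K : X.IdealSheafData) [Flat (K.subschemeι ≫ φ)] [IsFinite (K.subschemeι ≫ φ)],
      IsFinite ((K.comap (φ.fiberι s)).subschemeι ≫ φ.fiberToSpecResidueField s) ∧
      ((K.comap (φ.fiberι s)).subschemeι ≫ φ.fiberToSpecResidueField s).finrank t =
        (K.subschemeι ≫ φ).finrank s := fun K _ _ => by
    refine ⟨MorphismProperty.of_isPullback (isPullback_comap_subscheme φ K s) inferInstance, ?_⟩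
    rw [Scheme.Hom.finrank_of_isPullback _ _ (K.subschemeι ≫ φ) _ (isPullback_comap_subscheme φ K s) t,
      Scheme.fromSpecResidueField_apply]
  obtain ⟨fI, eI⟩ := key I
  obtain ⟨fJ, eJ⟩ := key J
  obtain ⟨fIJ, eIJ⟩ := key (I * J)
  rw [← eI, ← eJ, ← eIJ]
  have hcI := Groth.L23.EffCart.isEffCartier_comap_pullback
    (IsPullback.of_hasPullback φ (S.fromSpecResidueField s)) hI
  have hcJ := Groth.L23.EffCart.isEffCartier_comap_pullback
    (IsPullback.of_hasPullback φ (S.fromSpecResidueField s)) hJ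
  have hm : (I * J).comap (φ.fiberι s) = I.comap (φ.fiberι s) * J.comap (φ.fiberι s) :=
    Groth.L22.Ideals.comap_mul _ _ _
  revert fIJ
  rw [hm]
  intro fIJ
  exact @finrank_mul_field (φ.fiber s) (S.residueField s) _ (φ.fiberToSpecResidueField s) (I.comap (φ.fiberι s)) (J.comap (φ.fiberι s)) hcI hcJ fI fJ fIJ t

end Groth.L02.RelCartier
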