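import Groth.Agent.L02.RelCartier.Algebra
import Groth.Agent.L13.BlowUp.Local
import Mathlib.AlgebraicGeometry.Fiber
import Mathlib.AlgebraicGeometry.ResidueField
import Mathlib.AlgebraicGeometry.Morphisms.Flat
import Mathlib.AlgebraicGeometry.Morphisms.FinitePresentation

/-!
Relative effective Cartier divisors: transfer between fibres and tensor products with residue fields.
-/

set_option autoImplicit false
set_option linter.style.haveILetI false

universe u

open CategoryTheory CategoryTheory.Limits AlgebraicGeometry TopologicalSpace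
open scoped TensorProduct

namespace Groth.L02.RelCartier

open Groth.L13.BU

theorem flat_SpecMap_field {K L : Type u} [Field K] [CommRing L] (f : CommRingCat.of K ⟶ CommRingCat.of L) :
    Flat (Spec.map f) := by
  rw [HasRingHomProperty.Spec_iff (P := @Flat)]
  let l : Algebra K L := f.hom.toAlgebra
  exact inferInstanceAs (Module.Flat K L)

variable {X S : Scheme.{u}}

/-- Effective Cartier on all fibres gives effective Cartier on all field-valued base changes. -/
theorem eff_pullback_fst (φ : X ⟶ S) (J : X.IdealSheafData)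
    (hfib : ∀ s : S, BlowUp.IsEffCartierIdeal (J.comap (φ.fiberι s)))
    (K : Type u) [Field K] (g : Spec (CommRingCat.of K) ⟶ S) :
    BlowUp.IsEffCartierIdeal (J.comap (pullback.fst φ g)) := by
  obtain ⟨⟨s, a⟩, rfl⟩ := (Scheme.SpecToEquivOfField K S).symm.surjective g
  change BlowUp.IsEffCartierIdeal (J.comap (pullback.fst φ (Spec.map a ≫ S.fromSpecResidueField s)))
  let m : pullback φ (Spec.map a ≫ S.fromSpecResidueField s) ⟶ φ.fiber s :=
    pullback.lift (pullback.fst _ _) (pullback.snd _ _ ≫ Spec.map a) (by rw [pullback.condition, Category.assoc])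
  haveI : Flat (Spec.map a) := flat_SpecMap_field (K := S.residueField s) a
  have hsq : IsPullback m (pullback.snd φ (Spec.map a ≫ S.fromSpecResidueField s))
      (φ.fiberToSpecResidueField s) (Spec.map a) := by
    refine IsPullback.of_right (h₁₂ := φ.fiberι s) ?_ (pullback.lift_snd _ _ _)
      (IsPullback.of_hasPullback φ (S.fromSpecResidueField s))
    erw [pullback.lift_fst]
    exact IsPullback.of_hasPullback _ _
  haveI : Flat m := MorphismProperty.of_isPullback hsq.flip inferInstance
  rw [show pullback.fst φ (Spec.map a ≫ S.fromSpecResidueField s) = m ≫ φ.fiberι s from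
    (pullback.lift_fst _ _ _).symm, Scheme.IdealSheafData.comap_comp]
  exact Groth.L22.Ideals.isEffCartier_comap_of_flat m (hfib s)

theorem isPullback_comp_mono {P A B C D : Scheme.{u}} {fst : P ⟶ A} {snd : P ⟶ B} {f : A ⟶ C} {g : B ⟶ C}
    (h : IsPullback fst snd f g) (i : C ⟶ D) [Mono i] : IsPullback fst snd (f ≫ i) (g ≫ i) := by
  refine IsPullback.of_isLimit' ⟨by rw [reassoc_of% h.w]⟩ (PullbackCone.isLimitAux' _ fun s => ?_)
  have hs : s.fst ≫ f = s.snd ≫ g := by
    rw [← cancel_mono i, Category.assoc, Category.assoc]; exact s.condition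
  exact ⟨h.lift s.fst s.snd hs, h.lift_fst _ _ _, h.lift_snd _ _ _,
    fun h₁ h₂ => h.hom_ext (h₁.trans (h.lift_fst _ _ _).symm) (h₂.trans (h.lift_snd _ _ _).symm)⟩

/-- The fibre ring of a chart. -/
theorem eff_spec (φ : X ⟶ S) (J : X.IdealSheafData)
    (hfib : ∀ s : S, BlowUp.IsEffCartierIdeal (J.comap (φ.fiberι s)))
    {A B K : Type u} [CommRing A] [CommRing B] [Field K] [Algebra A B] [Algebra A K]
    (jA : Spec (CommRingCat.of A) ⟶ S) [Mono jA] (jB : Spec (CommRingCat.of B) ⟶ X) [IsOpenImmersion jB]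
    (hj : Spec.map (CommRingCat.ofHom (algebraMap A B)) ≫ jA = jB ≫ φ) :
    BlowUp.IsEffCartierIdeal (J.comap
      (Spec.map (CommRingCat.ofHom (Algebra.TensorProduct.includeLeftRingHom : B →+* B ⊗[A] K)) ≫ jB)) := by
  let g : Spec (CommRingCat.of K) ⟶ S := Spec.map (CommRingCat.ofHom (algebraMap A K)) ≫ jA
  let iL := Spec.map (CommRingCat.ofHom (Algebra.TensorProduct.includeLeftRingHom : B →+* B ⊗[A] K))
  let iR := Spec.map (CommRingCat.ofHom
    (Algebra.TensorProduct.includeRight : K →ₐ[A] B ⊗[A] K).toRingHom)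
  have hsq : IsPullback iL iR (jB ≫ φ) g := by
    rw [← hj]
    exact isPullback_comp_mono
      (isPullback_SpecMap_of_isPushout _ _ _ _ (CommRingCat.isPushout_tensorProduct A B K)) jA
  let l : Spec (CommRingCat.of (B ⊗[A] K)) ⟶ pullback φ g :=
    pullback.lift (iL ≫ jB) iR (by rw [Category.assoc]; exact hsq.w)
  have hl : IsPullback l iL (pullback.fst φ g) jB := by
    refine IsPullback.of_right (h₁₂ := pullback.snd φ g) ?_ (pullback.lift_fst _ _ _)
      (IsPullback.of_hasPullback φ g).flip
    rw [pullback.lift_snd]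
    exact hsq.flip
  haveI : IsOpenImmersion l := MorphismProperty.of_isPullback hl.flip inferInstance
  rw [show iL ≫ jB = l ≫ pullback.fst φ g from (pullback.lift_fst _ _ _).symm,
    Scheme.IdealSheafData.comap_comp]
  exact Groth.L22.Ideals.isEffCartier_comap_of_flat l (eff_pullback_fst φ J hfib K g)

theorem eq_idealOf {C : Type u} [CommRing C] (J : (Spec (CommRingCat.of C)).IdealSheafData) (I : Ideal C)
    (h : J.ideal ⟨⊤, isAffineOpen_top _⟩ = I.map (Scheme.ΓSpecIso (CommRingCat.of C)).inv.hom) :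
    J = idealOf I :=
  Scheme.IdealSheafData.equivOfIsAffine.injective (h.trans (idealOf_top I).symm)

theorem comap_fromSpec (J : X.IdealSheafData) (V : X.affineOpens) :
    J.comap V.2.fromSpec = idealOf (J.ideal V) := by
  refine eq_idealOf (C := Γ(X, V.1)) _ _ ?_
  rw [Groth.L22.Ideals.comap_ideal V.2.fromSpec J V ⟨⊤, isAffineOpen_top _⟩
    (by rw [V.2.fromSpec_preimage_self])]
  congr 2
  rw [Scheme.Hom.appLE, V.2.fromSpec_app_self, Category.assoc, ← Functor.map_comp]
  simp
  rfl

theorem comap_idealOf {B C : Type u} [CommRing B] [CommRing C] (f : B →+* C) (I : Ideal B) :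
    (idealOf I).comap (Spec.map (CommRingCat.ofHom f)) = idealOf (I.map f) :=
  eq_idealOf _ _ (comap_SpecMap f I)

/-- A principal ideal of an affine scheme which is effective Cartier has a nonzerodivisor generator. -/
theorem nzd_of_eff {C : Type u} [CommRing C] (t : C) (h : BlowUp.IsEffCartierIdeal (idealOf (Ideal.span {t}))) :
    t ∈ nonZeroDivisors C := by
  let e := Scheme.ΓSpecIso (CommRingCat.of C)
  have h1 := nzd_of_span h ⟨⊤, isAffineOpen_top _⟩ (e.inv.hom t)
    (by rw [idealOf_top, Ideal.map_span, Set.image_singleton])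
  rw [mem_nonZeroDivisors_iff_right]
  intro x hx
  have h2 : e.inv.hom x * e.inv.hom t = 0 := by rw [← map_mul, hx, map_zero]
  exact e.symm.commRingCatIsoToRingEquiv.map_eq_zero_iff.1 (h1.2 _ h2)

theorem principal_of_away {C : Type u} [CommRing C] (I : Ideal C) (g : C) (R : Type u) [CommRing R]
    [Algebra C R] [IsLocalization.Away g R] (f : R) (hf : Ideal.span {f} = I.map (algebraMap C R)) :
    ∃ y ∈ I, ∀ z ∈ I, ∃ (n : ℕ) (c : C), g ^ n * z = c * y := by
  obtain ⟨⟨⟨y, hy⟩, ⟨_, m, rfl⟩⟩, hfy⟩ := (IsLocalization.mem_map_algebraMap_iff (Submonoid.powers g) R).1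
    (hf.le (Ideal.mem_span_singleton_self f))
  refine ⟨y, hy, fun z hz => ?_⟩
  obtain ⟨r, hr⟩ := Ideal.mem_span_singleton'.1 (hf.ge (Ideal.mem_map_of_mem _ hz))
  obtain ⟨⟨r', ⟨_, k, rfl⟩⟩, hr'⟩ := IsLocalization.surj (Submonoid.powers g) r
  have : algebraMap C R (g ^ (k + m) * z) = algebraMap C R (r' * y) := by
    rw [map_mul, map_mul, ← hr', ← hfy, ← hr, pow_add, map_mul]
    ring
  obtain ⟨⟨_, j, rfl⟩, hj⟩ := IsLocalization.exists_of_eq (M := Submonoid.powers g) this
  exact ⟨j + (k + m), g ^ j * r', by rw [pow_add, mul_assoc, mul_assoc]; exact hj⟩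

set_option backward.isDefEq.respectTransparency false in
set_option backward.isDefEq.respectTransparency.types false in
/-- An effective Cartier ideal of an affine scheme is locally principal in the algebraic sense. -/
theorem principal_of_eff {C : CommRingCat.{u}} (I : Ideal C) (h : BlowUp.IsEffCartierIdeal (idealOf (A := C) I))
    (P : Ideal C) [hP : P.IsPrime] :
    ∃ g ∉ P, ∃ y ∈ I, ∀ z ∈ I, ∃ (n : ℕ) (c : C), g ^ n * z = c * y := by
  let x : Spec C := (⟨P, hP⟩ : PrimeSpectrum C)
  obtain ⟨U, hxU, f₀, -, -, hU⟩ := Groth.L22.Ideals.exists_generator h x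
  let U' : Opens (PrimeSpectrum C) := U.1
  obtain ⟨_, ⟨g, rfl⟩, hgx, hgU⟩ :=
    PrimeSpectrum.isTopologicalBasis_basic_opens.exists_subset_of_mem_open
      (show (⟨P, hP⟩ : PrimeSpectrum C) ∈ (U' : Set (PrimeSpectrum C)) from hxU) U'.2
  let W : (Spec C).affineOpens := ⟨PrimeSpectrum.basicOpen g, IsAffineOpen.Spec_basicOpen g⟩
  obtain ⟨-, hW⟩ := hU W hgU
  obtain ⟨y, hy, hgen⟩ := principal_of_away I g Γ(Spec C, PrimeSpectrum.basicOpen g) _ (hW.symm.trans (by
    rw [← Scheme.IdealSheafData.map_ideal (idealOf (A := C) I) (U := W) (V := ⟨⊤, isAffineOpen_top _⟩) (show W.1 ≤ ⊤ from le_top),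
      idealOf_top, Ideal.map_map]
    rfl))
  exact ⟨g, fun hc => hgx hc, y, hy, hgen⟩

theorem flat_mk_comp_iff {A B C : Type u} [CommRing A] [CommRing B] [CommRing C] (f : A →+* B) (π : B →+* C)
    (hπ : Function.Surjective π) (I : Ideal B) (hI : RingHom.ker π = I) :
    ((Ideal.Quotient.mk I).comp f).Flat ↔ (π.comp f).Flat := by
  subst hI
  let e := RingHom.quotientKerEquivOfSurjective hπ
  have he : π.comp f = e.toRingHom.comp ((Ideal.Quotient.mk _).comp f) := RingHom.ext fun a => rfl
  have he' : (Ideal.Quotient.mk _).comp f = e.symm.toRingHom.comp (π.comp f) :=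
    RingHom.ext fun a => (e.symm_apply_apply _).symm
  constructor <;> intro h
  · rw [he]; exact RingHom.Flat.comp h (RingHom.Flat.of_bijective e.bijective)
  · rw [he']; exact RingHom.Flat.comp h (RingHom.Flat.of_bijective e.symm.bijective)

theorem core_local (φ : X ⟶ S) (J : X.IdealSheafData)
    (hfib : ∀ s : S, BlowUp.IsEffCartierIdeal (J.comap (φ.fiberι s)))
    {A B : CommRingCat.{u}} (f : A ⟶ B) (hflat : f.hom.Flat) (hfp : f.hom.FinitePresentation)
    (jA : Spec A ⟶ S) [Mono jA] (jB : Spec B ⟶ X) [IsOpenImmersion jB] (hj : Spec.map f ≫ jA = jB ≫ φ)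
    (t : B) (hJ : J.comap jB = idealOf (Ideal.span {t})) :
    t ∈ nonZeroDivisors B ∧ ((Ideal.Quotient.mk (Ideal.span {t})).comp f.hom).Flat := by
  algebraize [f.hom]
  haveI : Module.Flat A B := hflat
  obtain ⟨h1, h2⟩ := nzd_and_flat (A := A) t fun q _ _ => nzd_of_eff _ <| by
    have := eff_spec φ J hfib (A := A) (B := B) (K := (q.comap (algebraMap A B)).ResidueField) jA jB hj
    rw [Scheme.IdealSheafData.comap_comp, hJ, comap_idealOf, Ideal.map_span, Set.image_singleton] at this
    exact this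
  exact ⟨h1, (RingHom.flat_algebraMap_iff).2 h2⟩

theorem core_principal (φ : X ⟶ S) (J : X.IdealSheafData)
    (hfib : ∀ s : S, BlowUp.IsEffCartierIdeal (J.comap (φ.fiberι s)))
    {A B : CommRingCat.{u}} (f : A ⟶ B)
    (jA : Spec A ⟶ S) [Mono jA] (jB : Spec B ⟶ X) [IsOpenImmersion jB] (hj : Spec.map f ≫ jA = jB ≫ φ)
    (I : Ideal B) (hI : I.FG) (hflat : ((Ideal.Quotient.mk I).comp f.hom).Flat) (hJ : J.comap jB = idealOf I)
    (q : Ideal B) [q.IsPrime] :
    ∃ t ∈ I, ∃ g ∉ q, I.map (algebraMap B (Localization.Away g)) =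
      Ideal.span {algebraMap B (Localization.Away g) t} := by
  algebraize [f.hom]
  haveI : Module.Flat A (B ⧸ I) := (RingHom.flat_algebraMap_iff).1 hflat
  refine exists_principal (A := A) I hI q fun P hP => ?_
  refine principal_of_eff (C := CommRingCat.of (B ⊗[A] (q.comap (algebraMap A B)).ResidueField)) _ ?_ P
  have := eff_spec φ J hfib (A := A) (B := B) (K := (q.comap (algebraMap A B)).ResidueField) jA jB hj
  rwa [Scheme.IdealSheafData.comap_comp, hJ, comap_idealOf] at this

end Groth.L02.RelCartier
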