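import Groth.Agent.L02.RelCartier.CurveRel
import Mathlib.RingTheory.DiscreteValuationRing.Basic

/-!
The local ring of a fibre at a point of a section with invertible ideal is a DVR.
-/

set_option autoImplicit false
set_option linter.style.haveILetI false

universe u

open CategoryTheory CategoryTheory.Limits AlgebraicGeometry TopologicalSpace IsLocalRing
open scoped nonZeroDivisors

namespace Groth.L02.RelCartier

theorem dvr_of_nzd_span {L : Type u} [CommRing L] [IsLocalRing L] [IsNoetherianRing L] (π : L) (hπ : π ∈ L⁰)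
    (hm : maximalIdeal L = Ideal.span {π}) : ∃ _ : IsDomain L, IsDiscreteValuationRing L := by
  have hπ0 : π ≠ 0 := nonZeroDivisors.ne_zero hπ
  haveI : NoZeroDivisors L := ⟨fun {a b} hab => by
    by_contra h
    push Not at h
    obtain ⟨n, hn⟩ := exists_span_pow π hm (Ideal.span {a}) (mt Ideal.span_singleton_eq_bot.1 h.1)
    obtain ⟨m, hm'⟩ := exists_span_pow π hm (Ideal.span {b}) (mt Ideal.span_singleton_eq_bot.1 h.2)
    have : Ideal.span {π ^ (n + m)} = (⊥ : Ideal L) := by
      rw [pow_add, ← Ideal.span_singleton_mul_span_singleton, ← hn, ← hm',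
        Ideal.span_singleton_mul_span_singleton, hab, Ideal.span_singleton_eq_bot]
    exact nonZeroDivisors.ne_zero (pow_mem hπ (n + m)) (Ideal.span_singleton_eq_bot.1 this)⟩
  haveI : IsDomain L := NoZeroDivisors.to_isDomain L
  haveI : IsPrincipalIdealRing L := ⟨fun I => by
    rcases eq_or_ne I ⊥ with rfl | hI
    · exact bot_isPrincipal
    · obtain ⟨n, rfl⟩ := exists_span_pow π hm I hI; exact ⟨⟨π ^ n, rfl⟩⟩⟩
  exact ⟨inferInstance, { not_a_field' := by rw [hm, Ne, Ideal.span_singleton_eq_bot]; exact hπ0 }⟩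

theorem dvr_localization_of_maximal {C : Type u} [CommRing C] [IsNoetherianRing C] (L : Type u) [CommRing L] [Algebra C L]
    (P : Ideal C) [P.IsPrime] [IsLocalization.AtPrime L P] (t : C) (ht : t ∈ C⁰)
    (hmax : (Ideal.span {t}).IsMaximal) (hu : ¬ IsUnit (algebraMap C L t)) :
    ∃ _ : IsDomain L, IsDiscreteValuationRing L := by
  haveI : IsLocalRing L := IsLocalization.AtPrime.isLocalRing L P
  haveI : IsNoetherianRing L := IsLocalization.isNoetherianRing P.primeCompl L inferInstance
  have htP : t ∈ P := by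
    by_contra h
    exact hu (IsLocalization.map_units L (⟨t, h⟩ : P.primeCompl))
  have hP : P = Ideal.span {t} :=
    (hmax.eq_of_le (Ideal.IsPrime.ne_top ‹_›) ((Ideal.span_singleton_le_iff_mem _).2 htP)).symm
  haveI : Module.Flat C L := IsLocalization.flat L P.primeCompl
  refine dvr_of_nzd_span (algebraMap C L t) ?_ ?_
  · rw [mem_nonZeroDivisors_iff_right]
    intro z hz
    refine (Groth.L07.FibreRegular.isSMulRegular_of_flat (N := L)
      (isRegular_iff_mem_nonZeroDivisors.2 ht).left) ?_
    show t • z = t • 0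
    rw [smul_zero, Algebra.smul_def, mul_comm]
    exact hz
  · rw [← IsLocalization.AtPrime.map_eq_maximalIdeal P L]
    conv_lhs => rw [hP]
    rw [Ideal.map_span, Set.image_singleton]

theorem dvr_stalk_of_eff_point {F : Scheme.{u}} [IsLocallyNoetherian F] {K : CommRingCat.{u}} (hK : IsField K)
    (J : F.IdealSheafData) (hJ : BlowUp.IsEffCartierIdeal J) (q : J.subscheme ⟶ Spec K) [IsIso q]
    (z : F) (hz : z ∈ J.support) :
    ∃ _ : IsDomain (F.presheaf.stalk z), IsDiscreteValuationRing (F.presheaf.stalk z) := by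
  obtain ⟨V, hzV, t, ht, hJV⟩ := hJ z
  haveI : IsNoetherianRing Γ(F, V.1) := IsLocallyNoetherian.component_noetherian V
  haveI : Subsingleton J.subscheme := by
    letI := hK.toField
    haveI : Subsingleton (Spec K) := inferInstanceAs (Subsingleton (PrimeSpectrum K))
    exact (Scheme.homeoOfIso (asIso q)).injective.subsingleton
  have htop : J.subschemeι ⁻¹ᵁ V.1 = ⊤ := by
    rw [← SetLike.mem_coe, ← J.range_subschemeι] at hz
    obtain ⟨w, rfl⟩ := hz
    exact eq_top_iff.2 fun a _ => (Subsingleton.elim a w) ▸ hzV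
  have hmax : (Ideal.span {t}).IsMaximal := by
    rw [← hJV, ← J.ker_subschemeι_app V]
    haveI : IsIso q.appTop := (Scheme.Γ.mapIso (asIso q).op).isIso_hom
    let e : Γ(J.subscheme, J.subschemeι ⁻¹ᵁ V.1) ≅ K :=
      J.subscheme.presheaf.mapIso (eqToIso htop.symm).op ≪≫ (asIso (q.appTop)).symm ≪≫ Scheme.ΓSpecIso K
    letI := hK.toField
    have := RingHom.ker_isMaximal_of_surjective (e.commRingCatIsoToRingEquiv.toRingHom.comp (J.subschemeι.app V.1).hom)
      (e.commRingCatIsoToRingEquiv.surjective.comp (J.subschemeι_app_surjective V))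
    rwa [RingHom.ker_equiv_comp] at this
  letI : Algebra Γ(F, V.1) (F.presheaf.stalk z) := TopCat.Presheaf.algebra_section_stalk F.presheaf ⟨z, hzV⟩
  haveI := V.2.isLocalization_stalk ⟨z, hzV⟩
  refine dvr_localization_of_maximal (F.presheaf.stalk z) (V.2.primeIdealOf ⟨z, hzV⟩).asIdeal t ht hmax ?_
  intro hu
  have := (Scheme.IdealSheafData.mem_support_iff_of_mem hzV).1 hz
  rw [hJV, Scheme.zeroLocus_span, Scheme.mem_zeroLocus_iff] at this
  exact this t rfl ((F.mem_basicOpen t z hzV).2 hu)

theorem dvr_fiber_of_section {X V : Scheme.{u}} (π : V ⟶ X) [LocallyOfFiniteType π]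
    (j : X ⟶ V) [IsClosedImmersion j] (hj : j ≫ π = 𝟙 X) (hJ : BlowUp.IsEffCartierIdeal j.ker) (x : X) :
    ∃ _ : IsDomain ((π.fiber (π.base (j.base x))).presheaf.stalk (π.asFiber (j.base x))),
      IsDiscreteValuationRing ((π.fiber (π.base (j.base x))).presheaf.stalk (π.asFiber (j.base x))) := by
  have e : j.ker.subschemeι ≫ π = inv j.toImage := by
    refine IsIso.eq_inv_of_hom_inv_id ?_
    rw [← Category.assoc]
    exact (congrArg (· ≫ π) j.toImage_imageι).trans hj
  haveI : IsIso (j.ker.subschemeι ≫ π) := by rw [e]; infer_instance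
  haveI : LocallyOfFiniteType (π.fiberToSpecResidueField (π (j x))) :=
    MorphismProperty.pullback_snd (P := @LocallyOfFiniteType) _ _ inferInstance
  haveI : IsLocallyNoetherian (π.fiber (π (j x))) :=
    LocallyOfFiniteType.isLocallyNoetherian (π.fiberToSpecResidueField (π (j x)))
  have heff := Groth.L23.EffCart.isEffCartier_comap_pullback
    (IsPullback.of_hasPullback π (X.fromSpecResidueField (π (j x)))) hJ
  haveI := (isPullback_comap_subscheme π j.ker (π (j x))).isIso_snd_of_isIso
  refine dvr_stalk_of_eff_point (Field.toIsField _) (j.ker.comap (π.fiberι (π (j x)))) heff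
    ((j.ker.comap _).subschemeι ≫ π.fiberToSpecResidueField (π (j x))) _ ?_
  rw [Scheme.IdealSheafData.support_comap]
  show π.fiberι _ (π.asFiber (j x)) ∈ j.ker.support
  rw [Scheme.Hom.fiberι_asFiber]
  exact Scheme.Hom.range_subset_ker_support j (Set.mem_range_self x)

end Groth.L02.RelCartier
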